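import Cfsg.Agent.Janko.Orders
import Cfsg.Agent.JankoOne.Iso.Main

/-!
Facts about Janko's first group transported along an isomorphism.
-/

set_option autoImplicit false
set_option linter.unusedSectionVars false

namespace Cfsg.Lib.WeakJOne

open Subgroup

universe u

variable {L : Type u} [Group L]

theorem jOne_finite (h : Cfsg.Spor.IsoJ1 L) : Finite L := by
  obtain ⟨e⟩ := h
  haveI := Cfsg.Lib.Janko.finite_J
  exact Finite.of_equiv _ e.symm.toEquiv

theorem jOne_card (h : Cfsg.Spor.IsoJ1 L) : Nat.card L = 175560 := by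
  obtain ⟨e⟩ := h
  rw [Nat.card_congr e.toEquiv]
  exact Cfsg.Lib.Janko.card_J

theorem jOne_simple (h : Cfsg.Spor.IsoJ1 L) : IsSimpleGroup L := by
  obtain ⟨e⟩ := h
  haveI : IsSimpleGroup Cfsg.Spor.J1 := Cfsg.Lib.Janko.isJ1.1
  haveI : Nontrivial L := e.toEquiv.nontrivial
  exact IsSimpleGroup.isSimpleGroup_of_surjective e.symm.toMonoidHom e.symm.surjective

theorem jOne_orders (h : Cfsg.Spor.IsoJ1 L) (g : L) : orderOf g ≤ 19 := by
  obtain ⟨e⟩ := h
  have := Cfsg.Lib.Janko.orderOf_mem (e g)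
  rw [MulEquiv.orderOf_eq] at this
  have key : ∀ n ∈ [1, 2, 3, 5, 6, 7, 10, 11, 15, 19], n ≤ 19 := by decide
  exact key _ this

theorem jOne_conj (h : Cfsg.Spor.IsoJ1 L) {a b : L} (ha : a * a = 1) (ha1 : a ≠ 1) (hb : b * b = 1) (hb1 : b ≠ 1) :
    IsConj a b := by
  obtain ⟨e⟩ := h
  have key : ∀ c : L, c * c = 1 → c ≠ 1 → IsConj Cfsg.Lib.Janko.tJ (e c) := fun c hc hc1 =>
    (Cfsg.Lib.Janko.two_element_facts (g := e c) (m := 1) (by
      rw [pow_one, pow_two, ← map_mul, hc, map_one])).2 (fun h => hc1 (e.injective (h.trans (map_one e).symm)))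
  obtain ⟨g, hg⟩ := isConj_iff.1 ((key a ha ha1).symm.trans (key b hb hb1))
  refine isConj_iff.2 ⟨e.symm g, e.injective ?_⟩
  rw [map_mul, map_mul, map_inv, MulEquiv.apply_symm_apply]
  exact hg

theorem jOne_cent (h : Cfsg.Spor.IsoJ1 L) {a : L} (ha : a * a = 1) (ha1 : a ≠ 1) :
    Nat.card (centralizer ({a} : Set L)) = 120 := by
  obtain ⟨e⟩ := h
  obtain ⟨f⟩ := Cfsg.Lib.Janko.centralizer_equiv
  obtain ⟨g, hg⟩ := isConj_iff.1 ((Cfsg.Lib.Janko.two_element_facts (g := e a) (m := 1) (by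
      rw [pow_one, pow_two, ← map_mul, ha, map_one])).2 (fun h => ha1 (e.injective (h.trans (map_one e).symm))))
  have h1 : Nat.card (centralizer ({a} : Set L)) =
      Nat.card (centralizer ({Cfsg.Lib.Janko.tJ} : Set Cfsg.Spor.J1)) := by
    refine Nat.card_congr (Equiv.subtypeEquiv (e.toEquiv.trans (MulAut.conj g⁻¹).toEquiv) fun x => ?_)
    show x ∈ centralizer ({a} : Set L) ↔ g⁻¹ * e x * g⁻¹⁻¹ ∈ centralizer ({Cfsg.Lib.Janko.tJ} : Set Cfsg.Spor.J1)
    rw [mem_centralizer_singleton_iff, mem_centralizer_singleton_iff, ← e.injective.eq_iff, map_mul, map_mul, ← hg]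
    constructor
    · intro h
      calc g⁻¹ * e x * g⁻¹⁻¹ * Cfsg.Lib.Janko.tJ = g⁻¹ * (e x * (g * Cfsg.Lib.Janko.tJ * g⁻¹)) * g := by group
        _ = Cfsg.Lib.Janko.tJ * (g⁻¹ * e x * g⁻¹⁻¹) := by rw [h]; group
    · intro h
      calc e x * (g * Cfsg.Lib.Janko.tJ * g⁻¹) = g * (g⁻¹ * e x * g⁻¹⁻¹ * Cfsg.Lib.Janko.tJ) * g⁻¹ := by group
        _ = g * Cfsg.Lib.Janko.tJ * g⁻¹ * e x := by rw [h]; group
  rw [h1, Nat.card_congr f.toEquiv, Nat.card_eq_fintype_card]
  decide +kernel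

/-- A subgroup of odd order of Janko's first group is small. -/
theorem jOne_odd (h : Cfsg.Spor.IsoJ1 L) {X : Subgroup L} (hX : ¬ 2 ∣ Nat.card X) : Nat.card X ≤ 361 := by
  classical
  haveI := jOne_finite h
  have hd : Nat.card X ∣ 175560 := jOne_card h ▸ card_subgroup_dvd_card X
  have hd' : Nat.card X ∣ 21945 := by
    refine Nat.Coprime.dvd_of_dvd_mul_left ?_ (show Nat.card X ∣ 2 ^ 3 * 21945 from hd.trans (dvd_of_eq (by norm_num)))
    exact Nat.Coprime.pow_right 3 ((Nat.Prime.coprime_iff_not_dvd Nat.prime_two).2 hX).symm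
  have hsq : Squarefree (Nat.card X) := by
    refine Squarefree.squarefree_of_dvd hd' ?_
    rw [Nat.squarefree_iff_nodup_primeFactorsList (by norm_num)]
    simp +decide
  haveI : IsZGroup X := IsZGroup.of_squarefree hsq
  haveI : IsCyclic (commutator X) := IsZGroup.isCyclic_commutator X
  obtain ⟨c, hc⟩ := IsCyclic.exists_generator (α := commutator X)
  obtain ⟨q, hq⟩ := IsCyclic.exists_generator (α := Abelianization X)
  obtain ⟨x, rfl⟩ := QuotientGroup.mk_surjective q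
  have h1 : Nat.card (commutator X) ≤ 19 := by
    rw [← orderOf_eq_card_of_forall_mem_zpowers hc, ← Subgroup.orderOf_coe, ← Subgroup.orderOf_coe]
    exact jOne_orders h _
  have h2 : Nat.card (Abelianization X) ≤ 19 := by
    rw [← orderOf_eq_card_of_forall_mem_zpowers hq]
    refine le_trans (Nat.le_of_dvd (orderOf_pos x) (orderOf_map_dvd Abelianization.of x)) ?_
    rw [← Subgroup.orderOf_coe]
    exact jOne_orders h _
  have h3 := Subgroup.card_eq_card_quotient_mul_card_subgroup (commutator X)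
  rw [h3]
  exact Nat.mul_le_mul h2 h1

end Cfsg.Lib.WeakJOne
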