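import Cfsg.Agent.WeakClosureJOne.Count

/-!
An involution with weak closure `2 × A₅` generates Janko's first group.
-/

set_option autoImplicit false
set_option linter.unusedSectionVars false

namespace Cfsg.Lib.WeakJOne

open Subgroup

universe u

variable {G : Type u} [Group G] [Finite G]

theorem zmod_two_cases : ∀ a : ZMod 2, a = 0 ∨ a = 1 := by decide

theorem zmod_two_ne : (1 : Multiplicative (ZMod 2)) ≠ Multiplicative.ofAdd 1 := by decide

namespace Frame

variable {t : G} (F : Frame G t)

include F in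
theorem t_not_central : t ∉ center G := fun h => by
  have hle : wcl t ≤ zpowers t := (closure_le _).2 (by
    rintro x ⟨g, rfl, -⟩
    rw [SetLike.mem_coe, (mem_center_iff.1 h g), mul_inv_cancel_right]
    exact mem_zpowers t)
  have hcard := card_dvd_of_le hle
  rw [Nat.card_zpowers, ← F.range_eq, ← Nat.card_congr (MonoidHom.ofInjective F.inj).toEquiv,
    orderOf_eq_prime (p := 2) (by rw [pow_two, F.t_sq]) F.t_ne, Nat.card_prod, Nat.card_eq_fintype_card,
    Nat.card_eq_fintype_card] at hcard
  exact absurd (Nat.le_of_dvd (by norm_num) hcard) (by decide +kernel)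

theorem A_central {a : G} (ha : a ∈ F.A) (hc : a ∈ center G) : a = 1 := by
  by_contra h1
  obtain ⟨g, hg⟩ := isConj_iff.1 (F.all_class ha h1)
  apply F.t_not_central
  rw [show t = g⁻¹ * a * g⁻¹⁻¹ by rw [← hg]; group]
  exact (inferInstance : (center G).Normal).conj_mem a hc g⁻¹

/-- Class elements of a subgroup containing `A` are conjugate in it into `A`. -/
theorem conj_in {Y : Subgroup G} (hAY : F.A ≤ Y) {y : G} (hy : y ∈ Y) (hyc : IsConj t y) :
    ∃ c ∈ Y, c * y * c⁻¹ ∈ F.A := by
  classical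
  haveI : Fact (Nat.Prime 2) := ⟨Nat.prime_two⟩
  obtain ⟨hyy, hy1⟩ := F.class_sq hyc
  have hp : IsPGroup 2 (F.A.subgroupOf Y) := (F.S.2.to_le F.A_le_S).comap_of_injective Y.subtype Y.subtype_injective
  obtain ⟨R, hR⟩ := hp.exists_le_sylow
  have hp2 : IsPGroup 2 ((zpowers y).subgroupOf Y) := IsPGroup.of_card (n := 1) (by
    rw [Nat.card_congr (subgroupOfEquivOfLe (zpowers_le.2 hy)).toEquiv, Nat.card_zpowers, pow_one]
    exact orderOf_eq_prime (by rw [pow_two, hyy]) hy1)
  obtain ⟨R', hR'⟩ := hp2.exists_le_sylow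
  obtain ⟨c, hc⟩ := MulAction.exists_smul_eq Y R' R
  have hcy : (c : G) * y * (c : G)⁻¹ ∈ (R : Subgroup Y).map Y.subtype := by
    refine ⟨c * ⟨y, hy⟩ * c⁻¹, ?_, rfl⟩
    rw [← hc, Sylow.coe_subgroup_smul]
    exact ⟨⟨y, hy⟩, hR' (mem_subgroupOf.2 (mem_zpowers y)), rfl⟩
  exact ⟨c, c.2, F.cls_twogroup (R.2.map Y.subtype) (fun a ha => ⟨⟨a, hAY ha⟩, hR (mem_subgroupOf.2 ha), rfl⟩)
    (hyc.trans (isConj_iff.2 ⟨c, rfl⟩)) hcy⟩

theorem X_le {N : Subgroup G} (hN : ∀ x, IsConj t x → x ∈ N) : F.X ≤ N := by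
  refine iSup_le fun a => (closure_le _).2 ?_
  rintro x ⟨g, rfl, -⟩
  exact hN _ ((F.all_class a.2.1 a.2.2).trans (isConj_iff.2 ⟨g, rfl⟩))

include F in
/-- The hypotheses in a central quotient. -/
theorem quot_hyp {Z : Subgroup G} [Z.Normal] (hZ : Z ≤ center G) :
    Hyp (G ⧸ Z) (QuotientGroup.mk' Z t) := by
  classical
  haveI : Fact (Nat.Prime 2) := ⟨Nat.prime_two⟩
  set π := QuotientGroup.mk' Z with hπ
  have hker : ∀ {x : G}, π x = 1 → x ∈ Z := fun h => (QuotientGroup.eq_one_iff _).1 h
  have hzW : ∀ {x : G}, x ∈ wcl t → x ∈ Z → x = 1 := by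
    intro x hx hxZ
    obtain ⟨g, rfl⟩ := F.exists_pre hx
    have hcen : ∀ h : WM, g * h = h * g := fun h => F.inj (by
      rw [map_mul, map_mul]; exact (mem_center_iff.1 (hZ hxZ) (F.φ h)).symm)
    rcases zM_facts.2.2.2 g hcen with rfl | rfl
    · exact map_one _
    · rw [F.map_z] at hxZ
      exact absurd (hZ hxZ) F.t_not_central
  have ht1 : π t ≠ 1 := fun h => F.t_ne (hzW (F.A_le_wcl F.t_mem) (hker h))
  refine ⟨orderOf_eq_prime (by rw [← map_pow, pow_two, F.t_sq, map_one]) ht1, ?_, ?_⟩
  · refine ⟨F.S.mapSurjective (QuotientGroup.mk'_surjective Z), ?_, ?_⟩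
    · rw [Sylow.coe_mapSurjective]; exact ⟨t, F.htS, rfl⟩
    · rw [Sylow.coe_mapSurjective]
      rintro _ ⟨s, hs, rfl⟩
      rw [← map_mul, ← map_mul, F.htc s hs]
  · -- commuting modulo `Z` is commuting
    have hlift : ∀ x : G, IsConj t x → π x * π t = π t * π x → x * t = t * x := by
      intro x hx hc
      obtain ⟨hxx, hx1⟩ := F.class_sq hx
      have hxi : x⁻¹ = x := inv_eq_of_mul_eq_one_left hxx
      have hti : t⁻¹ = t := inv_eq_of_mul_eq_one_left F.t_sq
      set e := x * t with he
      have hz : e * e ∈ Z := hker (by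
        rw [map_mul, he, map_mul, mul_assoc, ← mul_assoc (π t), ← hc, mul_assoc (π x) (π t) (π t), ← map_mul π t t,
          F.t_sq, map_one, mul_one, ← map_mul, hxx, map_one])
      have hinv : x * e * x⁻¹ = e⁻¹ := by
        rw [he, hxi, mul_inv_rev, hti, hxi, ← mul_assoc, hxx, one_mul]
      have he4 : e ^ (2 ^ 2) = 1 := by
        have h1 : x * (e * e) * x⁻¹ = e * e := by
          rw [mem_center_iff.1 (hZ hz) x, mul_inv_cancel_right]
        have h2 : x * (e * e) * x⁻¹ = (e * e)⁻¹ := by
          rw [show x * (e * e) * x⁻¹ = (x * e * x⁻¹) * (x * e * x⁻¹) by group, hinv, mul_inv_rev e e]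
        rw [h1] at h2
        rw [show (2 : ℕ) ^ 2 = 2 * 2 from rfl, pow_mul, pow_two e, pow_two]
        nth_rewrite 2 [h2]
        exact mul_inv_cancel _
      obtain ⟨k, -, hk⟩ := (Nat.dvd_prime_pow Nat.prime_two).1 (orderOf_dvd_of_pow_eq_one he4)
      have hnorm : zpowers x ≤ normalizer ((zpowers e : Subgroup G) : Set G) := by
        rw [zpowers_le]
        refine mem_normalizer_iff.2 fun z => ⟨fun hz => ?_, fun hz => ?_⟩
        · obtain ⟨i, rfl⟩ := mem_zpowers_iff.1 hz
          rw [← conj_zpow, hinv, inv_zpow]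
          exact inv_mem (zpow_mem (mem_zpowers e) i)
        · obtain ⟨i, hi⟩ := mem_zpowers_iff.1 hz
          have : z = x * e ^ i * x⁻¹ := by
            rw [hi, hxi, show x * (x * z * x) * x = x * x * z * (x * x) by group, hxx, one_mul, mul_one]
          rw [this, ← conj_zpow, hinv, inv_zpow]
          exact inv_mem (zpow_mem (mem_zpowers e) i)
      have hR : IsPGroup 2 (zpowers e ⊔ zpowers x : Subgroup G) :=
        IsPGroup.to_sup_of_normal_left' (IsPGroup.of_card (by rw [Nat.card_zpowers, hk]))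
          (IsPGroup.of_card (n := 1) (by rw [Nat.card_zpowers, pow_one, orderOf_eq_prime (by rw [pow_two, hxx]) hx1]))
          hnorm
      obtain ⟨P, hP⟩ := hR.exists_le_sylow
      obtain ⟨h, hh⟩ := MulAction.exists_smul_eq G P F.S
      have hxP : x ∈ (P : Subgroup G) := hP (mem_sup_right (mem_zpowers x))
      have htP : t ∈ (P : Subgroup G) := by
        have := mul_mem hxP (hP (mem_sup_left (mem_zpowers e)))
        rwa [he, ← mul_assoc, hxx, one_mul] at this
      have key : ∀ z, IsConj t z → z ∈ (P : Subgroup G) → h * z * h⁻¹ ∈ F.A := fun z hz hzP =>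
        F.cls_S (hz.trans (isConj_iff.2 ⟨h, rfl⟩)) (by rw [← hh, Sylow.coe_subgroup_smul]; exact ⟨z, hzP, rfl⟩)
      refine (MulAut.conj h).injective ?_
      rw [map_mul, map_mul]
      exact F.comm_A (key x hx hxP) (key t (IsConj.refl t) htP)
    have hmap : (wcl t).map π = wcl (π t) := by
      refine le_antisymm ?_ ((closure_le _).2 ?_)
      · rw [wcl, MonoidHom.map_closure, closure_le]
        rintro _ ⟨x, ⟨g, rfl, hc⟩, rfl⟩
        refine mem_wcl (isConj_iff.2 ⟨π g, by rw [map_mul, map_mul, map_inv]⟩) ?_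
        rw [← map_mul, ← map_mul, hc]
      · rintro x ⟨g, rfl, hc⟩
        obtain ⟨g, rfl⟩ := QuotientGroup.mk'_surjective Z g
        have e : π g * π t * (π g)⁻¹ = π (g * t * g⁻¹) := by rw [map_mul, map_mul, map_inv]
        rw [e] at hc
        exact ⟨g * t * g⁻¹, mem_wcl (isConj_iff.2 ⟨g, rfl⟩) (hlift _ (isConj_iff.2 ⟨g, rfl⟩) hc), e.symm⟩
    have hinj : Function.Injective (π.comp F.φ) := (injective_iff_map_eq_one _).2 fun g hg => F.inj (by
      rw [map_one]; exact hzW (F.mem_range g) (hker hg))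
    have hr : (π.comp F.φ).range = wcl (π t) := by rw [MonoidHom.range_comp, F.range_eq, hmap]
    exact ⟨(MulEquiv.subgroupCongr hr.symm).trans (MonoidHom.ofInjective hinj).symm⟩

end Frame

theorem main : ∀ (n : ℕ) (G : Type u) [Group G] [Finite G] (t : G), Nat.card G = n → Hyp G t →
    Cfsg.Spor.IsoJ1 (Subgroup.normalClosure ({t} : Set G)) := by
  intro n
  induction n using Nat.strong_induction_on with
  | _ n ihn =>
  intro G _ _ t hn H
  classical
  haveI : Fact (Nat.Prime 2) := ⟨Nat.prime_two⟩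
  have ih : IH G := fun K _ _ s hlt hs => ihn _ (hn ▸ hlt) K s rfl hs
  obtain ⟨F⟩ := H.frame
  set N := Subgroup.normalClosure ({t} : Set G) with hN
  have hclsN : ∀ x, IsConj t x → x ∈ N := by
    intro x hx
    obtain ⟨g, rfl⟩ := isConj_iff.1 hx
    exact normalClosure_normal.conj_mem t (subset_normalClosure (Set.mem_singleton t)) g
  have htN : t ∈ N := hclsN t (IsConj.refl t)
  have hWN : wcl t ≤ N := (closure_le _).2 (by rintro x ⟨g, rfl, -⟩; exact hclsN _ (isConj_iff.2 ⟨g, rfl⟩))
  by_cases htop : N = ⊤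
  swap
  · -- the normal closure is proper
    have hfus : ∀ a ∈ F.A, a ≠ 1 → ∃ g ∈ N, g * t * g⁻¹ = a := fun a ha ha1 =>
      (F.X_fusion ha ha1).imp fun g hg => ⟨F.X_le hclsN hg.1, hg.2⟩
    have hlt : Nat.card N < Nat.card G := lt_of_le_of_ne (card_le_card_group N) fun h => htop (eq_top_of_card_eq _ h)
    obtain ⟨e⟩ := ih N ⟨t, hWN (F.A_le_wcl F.t_mem)⟩ hlt (F.sub_hyp hWN hfus)
    set N' := Subgroup.normalClosure ({⟨t, hWN (F.A_le_wcl F.t_mem)⟩} : Set N) with hN'
    have htop' : N' = ⊤ := by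
      have hle : N ≤ N'.map N.subtype := by
        refine (closure_le _).2 fun x hx => ?_
        obtain ⟨t', ht', hxc⟩ := Group.mem_conjugatesOfSet_iff.1 hx
        rw [Set.mem_singleton_iff] at ht'
        subst ht'
        obtain ⟨c, hc, hca⟩ := F.conj_in (fun a ha => hWN (F.A_le_wcl ha)) (hclsN x hxc) hxc
        obtain ⟨g, hg, hga⟩ := hfus _ hca (conj_ne c (F.class_sq hxc).2)
        refine ⟨(⟨c, hc⟩⁻¹ * ⟨g, hg⟩) * ⟨t', hWN (F.A_le_wcl F.t_mem)⟩ * (⟨c, hc⟩⁻¹ * ⟨g, hg⟩)⁻¹,
          normalClosure_normal.conj_mem _ (subset_normalClosure (Set.mem_singleton _)) _, ?_⟩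
        show c⁻¹ * g * t' * (c⁻¹ * g)⁻¹ = x
        rw [show c⁻¹ * g * t' * (c⁻¹ * g)⁻¹ = c⁻¹ * (g * t' * g⁻¹) * c by group, hga]
        group
      exact eq_top_iff.2 fun x _ => by
        obtain ⟨m, hm, hmx⟩ := hle x.2
        exact (Subtype.ext hmx : m = x) ▸ hm
    exact ⟨(topEquiv.symm.trans (MulEquiv.subgroupCongr htop'.symm)).trans e⟩
  -- perfect
  have hperf : commutator G = ⊤ := by
    refine eq_top_iff.2 (htop ▸ normalClosure_le_normal ?_)
    rw [Set.singleton_subset_iff, SetLike.mem_coe]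
    obtain ⟨b, hb, c, hc, e⟩ := F.inE_iff.2 vM_facts.2.2.2.2.2.2.1
    have huA : F.φ uM ∈ F.A := ⟨uM, by show inA uM; simp [inA], rfl⟩
    have hu1 : F.φ uM ≠ 1 := fun h => vM_facts.2.2.2.1 (F.inj (h.trans (map_one _).symm))
    obtain ⟨g, hg⟩ := isConj_iff.1 (F.all_class huA hu1)
    have hmem : F.φ uM ∈ commutator G := by
      rw [e, ← commutatorElement_def]
      exact commutator_mem_commutator (mem_top b) (mem_top c)
    rw [show t = g⁻¹ * F.φ uM * g⁻¹⁻¹ by rw [← hg]; group]
    exact (inferInstance : (commutator G).Normal).conj_mem _ hmem _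
  -- trivial centre
  have hZ : center G = ⊥ := by
    by_contra hne
    obtain ⟨p, hp, hpd⟩ := Nat.exists_prime_and_dvd (n := Nat.card (center G))
      (fun h => hne (Subgroup.card_eq_one.1 h))
    haveI : Fact p.Prime := ⟨hp⟩
    obtain ⟨⟨z, hz⟩, hzo⟩ := exists_prime_orderOf_dvd_card' p hpd
    rw [orderOf_mk] at hzo
    set Z := zpowers z with hZdef
    have hZc : Z ≤ center G := zpowers_le.2 hz
    haveI : Z.Normal := ⟨fun a ha g => by rw [mem_center_iff.1 (hZc ha) g, mul_inv_cancel_right]; exact ha⟩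
    have hZcard : Nat.card Z = p := by rw [hZdef, Nat.card_zpowers, hzo]
    have hsplit := Subgroup.card_eq_card_quotient_mul_card_subgroup Z
    rw [hZcard] at hsplit
    have hlt : Nat.card (G ⧸ Z) < Nat.card G := by
      rw [hsplit]; exact lt_mul_of_one_lt_right Nat.card_pos hp.one_lt
    obtain ⟨e⟩ := ih (G ⧸ Z) (QuotientGroup.mk' Z t) hlt (F.quot_hyp hZc)
    have hq : Subgroup.normalClosure ({QuotientGroup.mk' Z t} : Set (G ⧸ Z)) = ⊤ := by
      rw [← Set.image_singleton, ← map_normalClosure _ _ (QuotientGroup.mk'_surjective Z), ← hN, htop,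
        ← MonoidHom.range_eq_map, MonoidHom.range_eq_top.2 (QuotientGroup.mk'_surjective Z)]
    have hcard : Nat.card (G ⧸ Z) = 175560 := by
      have := jOne_card ⟨e⟩
      rwa [hq, Subgroup.card_top] at this
    rw [hcard] at hsplit
    -- an abelian Sylow subgroup
    have hPab : ∀ P : Sylow p G, IsMulCommutative (P : Subgroup G) := by
      intro P
      by_cases hp2 : p = 2
      · subst hp2
        have hR : IsPGroup 2 (F.A ⊔ Z : Subgroup G) := IsPGroup.to_sup_of_normal_right (F.S.2.to_le F.A_le_S)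
          (IsPGroup.of_card (n := 1) (by rw [hZcard, pow_one]))
        obtain ⟨Q, hQ⟩ := hR.exists_le_sylow
        have hQc : Nat.card (Q : Subgroup G) = 16 := by
          rw [Q.card_eq_multiplicity, hsplit, show (175560 * 2 : ℕ) = 2 ^ 4 * 21945 from rfl,
            Nat.factorization_mul (by norm_num) (by norm_num), Finsupp.add_apply,
            Nat.factorization_eq_zero_of_not_dvd (show ¬ 2 ∣ 21945 by norm_num),
            Nat.Prime.factorization_pow Nat.prime_two]
          simp
        have hdisj : Disjoint F.A Z := disjoint_def.2 fun ha hz' => F.A_central ha (hZc hz')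
        let f : F.A × Z → (F.A ⊔ Z : Subgroup G) := fun q =>
          ⟨(q.1 : G) * q.2, mul_mem (mem_sup_left q.1.2) (mem_sup_right q.2.2)⟩
        have h16 : 16 ≤ Nat.card (F.A ⊔ Z : Subgroup G) := by
          have := Nat.card_le_card_of_injective f fun a b h =>
            mul_injective_of_disjoint hdisj (congrArg Subtype.val h :)
          rwa [Nat.card_prod, F.card_A, hZcard] at this
        have hQeq : (Q : Subgroup G) = F.A ⊔ Z := (eq_of_le_of_card_ge hQ (hQc.trans_le h16)).symm
        haveI : IsMulCommutative (Q : Subgroup G) := ⟨⟨fun a b => Subtype.ext (by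
          obtain ⟨a₁, ha₁, a₂, ha₂, ea⟩ := mem_sup_of_normal_right.1 (hQeq ▸ a.2 : (a : G) ∈ F.A ⊔ Z)
          obtain ⟨b₁, hb₁, b₂, hb₂, eb⟩ := mem_sup_of_normal_right.1 (hQeq ▸ b.2 : (b : G) ∈ F.A ⊔ Z)
          show (a : G) * b = b * a
          rw [← ea, ← eb]
          exact (Commute.mul_left (Commute.mul_right (F.comm_A ha₁ hb₁) (mem_center_iff.1 (hZc hb₂) a₁))
            (Commute.mul_right (mem_center_iff.1 (hZc ha₂) b₁).symm (mem_center_iff.1 (hZc hb₂) a₂))).eq)⟩⟩
        obtain ⟨g, hg⟩ := MulAction.exists_smul_eq G Q P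
        subst hg
        exact ⟨⟨fun a b => ((Q.equivSMul g).symm).injective (by rw [map_mul, map_mul, mul_comm'])⟩⟩
      · have hfac : (Nat.card G).factorization p ≤ 2 := by
          rw [hsplit, Nat.factorization_mul (by norm_num) hp.ne_zero, Finsupp.add_apply, hp.factorization_self]
          have h1 : (175560 : ℕ).factorization p ≤ 1 := by
            by_contra h
            have hd : p ^ 2 ∣ 2 ^ 3 * 21945 :=
              ((hp.pow_dvd_iff_le_factorization (n := 175560) (by norm_num)).2 (by omega)).trans (dvd_of_eq (by norm_num))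
            have hco : (p ^ 2).Coprime (2 ^ 3) := Nat.Coprime.pow 2 3 ((Nat.coprime_primes hp Nat.prime_two).2 hp2)
            have hsq : Squarefree (21945 : ℕ) := by
              rw [Nat.squarefree_iff_nodup_primeFactorsList (by norm_num)]
              simp +decide
            have h2 := hsq p (by rw [← pow_two]; exact hco.dvd_of_dvd_mul_left hd)
            exact hp.ne_one (Nat.isUnit_iff.1 h2)
          omega
        have hPc := P.card_eq_multiplicity
        rcases Nat.lt_or_ge ((Nat.card G).factorization p) 2 with h | h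
        · haveI : IsCyclic (P : Subgroup G) := by
            interval_cases hk : (Nat.card G).factorization p
            · haveI : Subsingleton (P : Subgroup G) := (Nat.card_eq_one_iff_unique.1 (by rw [hPc, pow_zero])).1
              infer_instance
            · exact isCyclic_of_prime_card (p := p) (by rw [hPc, pow_one])
          exact IsCyclic.isMulCommutative
        · exact ⟨⟨IsPGroup.commutative_of_card_eq_prime_sq
            (by rw [hPc, show (Nat.card G).factorization p = 2 by omega])⟩⟩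
    obtain ⟨P, hP⟩ := (IsPGroup.of_card (n := 1) (by rw [hZcard, pow_one]) : IsPGroup p Z).exists_le_sylow
    haveI := hPab P
    letI : CommGroup (P : Subgroup G) := { (inferInstance : Group (P : Subgroup G)) with mul_comm := mul_comm' }
    let V : G →* (P : Subgroup G) := MonoidHom.transfer (MonoidHom.id (P : Subgroup G))
    have hV1 : V z = 1 := by
      have hker : commutator G ≤ V.ker := by
        rw [_root_.commutator_def, Subgroup.commutator_le]
        intro a _ b _
        rw [MonoidHom.mem_ker, map_commutatorElement, commutatorElement_eq_one_iff_mul_comm]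
        exact mul_comm _ _
      exact hker (hperf ▸ mem_top z)
    have key : ∀ (k : ℕ) (g : G), g⁻¹ * z ^ k * g ∈ (P : Subgroup G) → g⁻¹ * z ^ k * g = z ^ k := fun k g _ => by
      rw [mul_assoc, (mem_center_iff.1 (pow_mem hz k) g).symm, inv_mul_cancel_left]
    have hVe := congrArg Subtype.val ((MonoidHom.transfer_eq_pow (MonoidHom.id (P : Subgroup G)) z key).symm.trans hV1)
    have hdvd := orderOf_dvd_of_pow_eq_one (show z ^ (P : Subgroup G).index = 1 from hVe)
    rw [hzo] at hdvd
    exact P.not_dvd_index hdvd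
  -- the weak closures generate
  have hXtop : F.X = ⊤ := by
    by_contra hX
    exact F.X_eq_top ih hX htop hZ
  have hCt : centralizer ({t} : Set G) = wcl t := by
    refine le_antisymm (fun g hg => ?_) (wcl_le_centralizer t)
    obtain ⟨w, hw, q, hq, rfl⟩ := F.centralizer_t (mem_centralizer_singleton_iff.1 hg)
    have hq1 : q ∈ center G := mem_center_iff.2 fun g => mem_centralizer_iff.1 hq g (hXtop ▸ mem_top g)
    rw [hZ, mem_bot] at hq1
    rwa [hq1, mul_one]
  set ι : alternatingGroup (Fin 5) →* G := F.φ.comp (MonoidHom.inr _ _) with hι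
  have hιinj : Function.Injective ι := fun a b h => (Prod.ext_iff.1 (F.inj h)).2
  have HJ : Cfsg.Lib.TwoTimesAlt.Hyp G t ι.range 5 := by
    refine ⟨?_, ⟨H.ord, F.S, F.htS, F.htc⟩, ⟨(MonoidHom.ofInjective hιinj).symm⟩, ?_, ?_, ?_, ?_, ?_⟩
    · intro M hMn hM2
      have hle : commutator G ≤ M := by
        rw [_root_.commutator_def, Subgroup.commutator_le]
        intro a _ b _
        exact Cfsg.Lib.TwoTimesAlt.comm_mem hM2 a b
      rw [hperf, top_le_iff] at hle
      rw [hle, index_top] at hM2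
      norm_num at hM2
    · exact zpowers_le.2 (mem_centralizer_singleton_iff.2 rfl)
    · rintro _ ⟨a, rfl⟩
      exact wcl_le_centralizer t (F.mem_range _)
    · intro p hp q hq
      obtain ⟨i, rfl⟩ := mem_zpowers_iff.1 hp
      obtain ⟨a, rfl⟩ := hq
      have h : Commute t (ι a) := (mem_centralizer_singleton_iff.1 (wcl_le_centralizer t (F.mem_range _))).symm
      exact (h.zpow_left i).eq
    · refine eq_bot_iff.2 fun x hx => mem_bot.2 ?_
      obtain ⟨i, rfl⟩ := mem_zpowers_iff.1 hx.1
      obtain ⟨a, ha⟩ := hx.2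
      obtain ⟨k, rfl | rfl⟩ := i.even_or_odd'
      · rw [zpow_mul, zpow_two, F.t_sq, one_zpow]
      · exfalso
        rw [zpow_add, zpow_mul, zpow_two, F.t_sq, one_zpow, one_mul, zpow_one] at ha
        have := F.inj (ha.trans F.map_z.symm)
        have h1 : (1 : Multiplicative (ZMod 2)) = Multiplicative.ofAdd 1 := congrArg Prod.fst this
        exact zmod_two_ne h1
    · rw [hCt]
      refine le_antisymm (sup_le (zpowers_le.2 (F.A_le_wcl F.t_mem)) ?_) ?_
      · rintro _ ⟨a, rfl⟩; exact F.mem_range _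
      · intro x hx
        obtain ⟨⟨i, a⟩, rfl⟩ := F.exists_pre hx
        rcases zmod_two_cases (Multiplicative.toAdd i) with h | h
        · have : i = 1 := Multiplicative.toAdd.injective h
          rw [this]
          exact mem_sup_right ⟨a, rfl⟩
        · have e : ((i, a) : WM) = zM * (1, a) :=
            Prod.ext (Multiplicative.toAdd.injective (by simpa [zM] using h)) (by simp [zM])
          rw [e, map_mul, F.map_z]
          exact mul_mem_sup (mem_zpowers t) ⟨a, rfl⟩
  obtain ⟨e⟩ := HJ.isoJOne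
  exact ⟨(MulEquiv.subgroupCongr htop).trans (topEquiv.trans e)⟩

end Cfsg.Lib.WeakJOne
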