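import Cfsg.Agent.WeakClosureJOne.Model

/-!
An involution central in a Sylow 2-subgroup with weak closure `2 × A₅` in its centraliser.
-/

set_option autoImplicit false
set_option linter.unusedSectionVars false

namespace Cfsg.Lib.WeakJOne

open Subgroup

universe u

variable {G : Type u} [Group G]

/-- The weak closure in the centraliser. -/
def wcl (t : G) : Subgroup G := closure {x | ∃ g : G, x = g * t * g⁻¹ ∧ x * t = t * x}

theorem mem_wcl {t x : G} (hx : IsConj t x) (hc : x * t = t * x) : x ∈ wcl t := by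
  obtain ⟨g, rfl⟩ := isConj_iff.1 hx
  exact subset_closure ⟨g, rfl, hc⟩

theorem wcl_le_centralizer (t : G) : wcl t ≤ centralizer ({t} : Set G) := by
  refine (closure_le _).2 ?_
  rintro x ⟨g, rfl, hc⟩
  exact mem_centralizer_singleton_iff.2 hc

/-- The hypotheses. -/
structure Hyp (G : Type u) [Group G] (t : G) : Prop where
  ord : orderOf t = 2
  sylow : ∃ P : Sylow 2 G, t ∈ (P : Subgroup G) ∧ ∀ s ∈ (P : Subgroup G), s * t = t * s
  iso : Nonempty (wcl t ≃* WM)

theorem conj_wcl (g t : G) : (wcl t).map (MulAut.conj g).toMonoidHom = wcl (g * t * g⁻¹) := by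
  rw [wcl, wcl, MonoidHom.map_closure]
  congr 1
  ext x
  constructor
  · rintro ⟨_, ⟨h, rfl, hc⟩, rfl⟩
    refine ⟨g * h * g⁻¹, by simp [mul_assoc], ?_⟩
    have := congrArg (fun z => g * z * g⁻¹) hc
    simpa [mul_assoc] using this
  · rintro ⟨h, rfl, hc⟩
    refine ⟨g⁻¹ * h * g * t * (g⁻¹ * h * g)⁻¹, ⟨_, rfl, ?_⟩, by simp [mul_assoc]⟩
    have := congrArg (fun z => g⁻¹ * z * g) hc
    simpa [mul_assoc] using this

theorem conj_mem_wcl {g t x : G} (hx : x ∈ wcl t) : g * x * g⁻¹ ∈ wcl (g * t * g⁻¹) :=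
  conj_wcl g t ▸ ⟨x, hx, rfl⟩

/-- The four-group times the centre, as a subgroup of the model. -/
def AM : Subgroup WM where
  carrier := {g | inA g}
  one_mem' := inA_closed.2.2.2.1
  mul_mem' := fun ha hb => inA_closed.1 _ _ ha hb
  inv_mem' := fun {a} ha => by
    rw [Set.mem_setOf_eq, inv_eq_of_mul_eq_one_left (inA_closed.2.1 a ha)]
    exact ha

/-- A parametrisation of the weak closure inside a Sylow normalising situation. -/
structure Frame (G : Type u) [Group G] (t : G) where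
  S : Sylow 2 G
  φ : WM →* G
  htS : t ∈ (S : Subgroup G)
  htc : ∀ s ∈ (S : Subgroup G), s * t = t * s
  inj : Function.Injective φ
  range_eq : φ.range = wcl t
  map_z : φ zM = t
  map_A : AM.map φ ≤ (S : Subgroup G)

namespace Frame

variable {t : G} (F : Frame G t)

/-- The elementary abelian group of order eight. -/
def A : Subgroup G := AM.map F.φ

/-- The derived part of the weak closure. -/
def InE (_F : Frame G t) (x : G) : Prop := ∃ b ∈ wcl t, ∃ c ∈ wcl t, x = b * c * b⁻¹ * c⁻¹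

theorem A_le_wcl : F.A ≤ wcl t := F.range_eq ▸ map_le_range _ _

theorem mem_range (x : WM) : F.φ x ∈ wcl t := F.range_eq ▸ ⟨x, rfl⟩

theorem exists_pre {x : G} (hx : x ∈ wcl t) : ∃ g, F.φ g = x := by
  rw [← F.range_eq] at hx
  exact hx

theorem card_A : Nat.card F.A = 8 := by
  rw [Frame.A, card_map_of_injective F.inj, show Nat.card AM = Nat.card {g : WM // inA g} from rfl,
    Nat.card_eq_fintype_card, Fintype.card_subtype, inA_closed.2.2.1]

theorem sq_A {a : G} (ha : a ∈ F.A) : a * a = 1 := by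
  obtain ⟨g, hg, rfl⟩ := ha
  rw [← map_mul, inA_closed.2.1 g hg, map_one]

theorem comm_A {a b : G} (ha : a ∈ F.A) (hb : b ∈ F.A) : a * b = b * a := by
  have h := F.sq_A (mul_mem ha hb)
  rw [← inv_eq_of_mul_eq_one_left h, mul_inv_rev, inv_eq_of_mul_eq_one_left (F.sq_A ha),
    inv_eq_of_mul_eq_one_left (F.sq_A hb)]

theorem A_le_S : F.A ≤ (F.S : Subgroup G) := F.map_A

include F in
theorem t_ne : t ≠ 1 := fun h =>
  zM_facts.2.1 (F.inj (F.map_z.trans (h.trans (map_one F.φ).symm)))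

theorem t_mem : t ∈ F.A := ⟨zM, by show inA zM; decide +kernel, F.map_z⟩

include F in
theorem t_sq : t * t = 1 := F.sq_A F.t_mem

theorem inE_iff {g : WM} : F.InE (F.φ g) ↔ g.1 = 1 := by
  rw [fst_iff]
  constructor
  · rintro ⟨b, hb, c, hc, h⟩
    obtain ⟨b, rfl⟩ := F.exists_pre hb
    obtain ⟨c, rfl⟩ := F.exists_pre hc
    exact ⟨b, c, F.inj (by rw [h, map_mul, map_mul, map_mul, map_inv, map_inv])⟩
  · rintro ⟨b, c, rfl⟩
    exact ⟨_, F.mem_range b, _, F.mem_range c, by rw [map_mul, map_mul, map_mul, map_inv, map_inv]⟩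

theorem conj_wcl_self {g x : G} (hg : g * t = t * g) (hx : x ∈ wcl t) : g * x * g⁻¹ ∈ wcl t := by
  have := conj_mem_wcl (g := g) hx
  rwa [show g * t * g⁻¹ = t by rw [hg, mul_inv_cancel_right]] at this

theorem inE_conj {g x : G} (hg : g * t = t * g) (hx : F.InE x) : F.InE (g * x * g⁻¹) := by
  obtain ⟨b, hb, c, hc, rfl⟩ := hx
  exact ⟨_, conj_wcl_self hg hb, _, conj_wcl_self hg hc, by group⟩

theorem t_not_inE : ¬ F.InE t := fun h => by
  have h2 : F.InE (F.φ zM) := by rwa [F.map_z]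
  rw [F.inE_iff] at h2
  exact absurd h2 (by decide +kernel)

/-- Commutators of the centraliser with `A` lie in the derived part. -/
theorem comm_inE {g a : G} (hg : g * t = t * g) (ha : a ∈ F.A) : F.InE (g * a * g⁻¹ * a⁻¹) := by
  obtain ⟨x, -, rfl⟩ := ha
  obtain ⟨e, he, h⟩ : ∃ e : WM, e.1 = 1 ∧ (x = e ∨ x = zM * e) := by
    rcases (by decide : ∀ a : ZMod 2, a = 0 ∨ a = 1) (Multiplicative.toAdd x.1) with h | h
    · exact ⟨(1, x.2), rfl, Or.inl (Prod.ext (Multiplicative.toAdd.injective (by simpa using h)) rfl)⟩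
    · exact ⟨(1, x.2), rfl, Or.inr (Prod.ext (Multiplicative.toAdd.injective (by simpa [zM] using h)) (by simp [zM]))⟩
  have hE : F.InE (g * F.φ e * g⁻¹) := F.inE_conj hg (F.inE_iff.2 he)
  obtain ⟨f, hf⟩ := F.exists_pre (conj_wcl_self hg (F.mem_range e))
  rw [← hf, F.inE_iff] at hE
  have key : g * F.φ x * g⁻¹ * (F.φ x)⁻¹ = F.φ (f * e⁻¹) := by
    rw [map_mul, map_inv, hf]
    rcases h with rfl | rfl
    · rfl
    · rw [map_mul, F.map_z, show g * (t * F.φ e) * g⁻¹ * (t * F.φ e)⁻¹ =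
        (g * t) * F.φ e * g⁻¹ * (F.φ e)⁻¹ * t⁻¹ by group, hg]
      have hc : t * F.φ (f * e⁻¹) = F.φ (f * e⁻¹) * t := by
        have h1 : F.φ (zM * (f * e⁻¹)) = F.φ ((f * e⁻¹) * zM) := by rw [zM_facts.2.2.1]
        rwa [map_mul, map_mul _ (f * e⁻¹) zM, F.map_z] at h1
      rw [map_mul, map_inv, hf] at hc
      calc t * g * F.φ e * g⁻¹ * (F.φ e)⁻¹ * t⁻¹ = (t * (g * F.φ e * g⁻¹ * (F.φ e)⁻¹)) * t⁻¹ := by group
        _ = _ := by rw [hc, mul_inv_cancel_right]
  rw [key, F.inE_iff, Prod.fst_mul, Prod.fst_inv, hE, he, inv_one, one_mul]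

variable [Finite G]

theorem sylow_wcl {B : Subgroup G} (hB : B ≤ wcl t) (hc : Nat.card B = 8) :
    ∃ c ∈ wcl t, ∀ b : G, b ∈ B ↔ c * b * c⁻¹ ∈ F.A := by
  haveI : Fact (Nat.Prime 2) := ⟨Nat.prime_two⟩
  have hW : Nat.card (wcl t) = 120 := by
    rw [← F.range_eq, ← Nat.card_congr (MonoidHom.ofInjective F.inj).toEquiv, Nat.card_prod, Nat.card_eq_fintype_card,
      Nat.card_eq_fintype_card]
    decide +kernel
  have hfac : (Nat.card (wcl t)).factorization 2 = 3 := by
    rw [hW, show (120 : ℕ) = 2 ^ 3 * 15 from rfl, Nat.factorization_mul (by norm_num) (by norm_num), Finsupp.add_apply,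
      Nat.factorization_eq_zero_of_not_dvd (show ¬ 2 ∣ 15 by norm_num), Nat.Prime.factorization_pow Nat.prime_two]
    simp
  let PA : Sylow 2 (wcl t) := Sylow.ofCard (F.A.subgroupOf (wcl t)) (by
    rw [Nat.card_congr (subgroupOfEquivOfLe F.A_le_wcl).toEquiv, F.card_A, hfac]; norm_num)
  let PB : Sylow 2 (wcl t) := Sylow.ofCard (B.subgroupOf (wcl t)) (by
    rw [Nat.card_congr (subgroupOfEquivOfLe hB).toEquiv, hc, hfac]; norm_num)
  obtain ⟨c, hc'⟩ := MulAction.exists_smul_eq (wcl t) PB PA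
  refine ⟨c, c.2, fun b => ?_⟩
  have hiff : ∀ z : wcl t, z ∈ B.subgroupOf (wcl t) ↔ c * z * c⁻¹ ∈ F.A.subgroupOf (wcl t) := fun z => by
    have e : (PA : Subgroup (wcl t)) = (PB : Subgroup (wcl t)).map (MulAut.conj c).toMonoidHom := by
      rw [← hc', Sylow.coe_subgroup_smul]; rfl
    simp only [PA, PB, Sylow.coe_ofCard] at e
    rw [e, mem_map_equiv, MulAut.conj_symm_apply]
    simp [mul_assoc]
  constructor
  · intro hb
    exact mem_subgroupOf.1 ((hiff ⟨b, hB hb⟩).1 (mem_subgroupOf.2 hb))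
  · intro hb
    have hbW : b ∈ wcl t := by
      have := mul_mem (mul_mem (inv_mem c.2) (F.A_le_wcl hb)) c.2
      rwa [show (c : G)⁻¹ * ((c : G) * b * (c : G)⁻¹) * c = b by group] at this
    exact mem_subgroupOf.1 ((hiff ⟨b, hbW⟩).2 (mem_subgroupOf.2 hb))

theorem S_inter {x : G} (hxW : x ∈ wcl t) (hxS : x ∈ (F.S : Subgroup G)) : x ∈ F.A := by
  have hp : IsPGroup 2 (wcl t ⊓ (F.S : Subgroup G) : Subgroup G) := F.S.2.to_le inf_le_right
  haveI : Fact (Nat.Prime 2) := ⟨Nat.prime_two⟩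
  obtain ⟨n, hn⟩ := hp.exists_card_eq
  have hd : Nat.card (wcl t ⊓ (F.S : Subgroup G) : Subgroup G) ∣ 120 := by
    refine (card_dvd_of_le inf_le_left).trans (dvd_of_eq ?_)
    rw [← F.range_eq, ← Nat.card_congr (MonoidHom.ofInjective F.inj).toEquiv, Nat.card_prod, Nat.card_eq_fintype_card,
      Nat.card_eq_fintype_card]
    decide +kernel
  have hn3 : n ≤ 3 := by
    by_contra h
    rw [hn] at hd
    exact absurd ((pow_dvd_pow 2 (show 4 ≤ n by omega)).trans hd) (by norm_num)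
  have heq : F.A = wcl t ⊓ (F.S : Subgroup G) := eq_of_le_of_card_ge (le_inf F.A_le_wcl F.A_le_S)
    (by rw [F.card_A, hn]; exact (Nat.pow_le_pow_right (by norm_num) hn3).trans_eq (by norm_num))
  exact heq ▸ ⟨hxW, hxS⟩

theorem cls_S {x : G} (hx : IsConj t x) (hxS : x ∈ (F.S : Subgroup G)) : x ∈ F.A :=
  F.S_inter (mem_wcl hx (F.htc x hxS)) hxS

end Frame

theorem Hyp.frame [Finite G] {t : G} (H : Hyp G t) : Nonempty (Frame G t) := by
  haveI : Fact (Nat.Prime 2) := ⟨Nat.prime_two⟩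
  obtain ⟨ho, ⟨P, htP, hPc⟩, ⟨e⟩⟩ := H
  have htW : t ∈ wcl t := mem_wcl (IsConj.refl t) rfl
  have het : e ⟨t, htW⟩ = zM := by
    have hcen : ∀ h, e ⟨t, htW⟩ * h = h * e ⟨t, htW⟩ := fun h => by
      obtain ⟨w, rfl⟩ := e.surjective h
      rw [← map_mul, ← map_mul]
      exact congrArg e (Subtype.ext (mem_centralizer_singleton_iff.1 (wcl_le_centralizer t w.2)).symm)
    refine (zM_facts.2.2.2 _ hcen).resolve_left fun h => ?_
    have := congrArg Subtype.val (e.injective (h.trans (map_one e).symm))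
    rw [show t = 1 from this, orderOf_one] at ho
    norm_num at ho
  let φ : WM →* G := (wcl t).subtype.comp e.symm.toMonoidHom
  have hinj : Function.Injective φ := Subtype.val_injective.comp e.symm.injective
  have hz : φ zM = t := by
    show ((e.symm zM : wcl t) : G) = t
    rw [← het, MulEquiv.symm_apply_apply]
  set C := centralizer ({t} : Set G) with hC
  have hPC : (P : Subgroup G) ≤ C := fun s hs => mem_centralizer_singleton_iff.2 (hPc s hs)
  have hAC : AM.map φ ≤ C := by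
    rintro _ ⟨g, -, rfl⟩
    exact wcl_le_centralizer t (e.symm g).2
  have hAp : IsPGroup 2 ((AM.map φ).subgroupOf C) := IsPGroup.of_card (n := 3) (by
    rw [Nat.card_congr (subgroupOfEquivOfLe hAC).toEquiv, card_map_of_injective hinj,
      show Nat.card AM = Nat.card {g : WM // inA g} from rfl,
      Nat.card_eq_fintype_card, Fintype.card_subtype, inA_closed.2.2.1]
    norm_num)
  obtain ⟨R, hR⟩ := hAp.exists_le_sylow
  obtain ⟨c, hc⟩ := MulAction.exists_smul_eq C (P.subtype hPC) R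
  refine ⟨⟨(c : G) • P, φ, ?_, ?_, hinj, ?_, hz, ?_⟩⟩
  · rw [Sylow.coe_subgroup_smul]
    exact ⟨t, htP, by
      show (c : G) * t * (c : G)⁻¹ = t
      rw [mem_centralizer_singleton_iff.1 c.2, mul_inv_cancel_right]⟩
  · rw [Sylow.coe_subgroup_smul]
    rintro _ ⟨s, hs, rfl⟩
    exact mem_centralizer_singleton_iff.1 (mul_mem (mul_mem c.2 (hPC hs)) (inv_mem c.2))
  · rw [MonoidHom.range_comp, MulEquiv.toMonoidHom_eq_coe, MonoidHom.range_eq_top.2 e.symm.surjective,
      ← MonoidHom.range_eq_map, range_subtype]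
  · intro x hx
    have hxR : (⟨x, hAC hx⟩ : C) ∈ (R : Subgroup C) := hR (mem_subgroupOf.2 hx)
    rw [← hc, Sylow.coe_subgroup_smul] at hxR
    obtain ⟨p, hp, hpe⟩ := hxR
    rw [Sylow.coe_subgroup_smul]
    exact ⟨(p : G), mem_subgroupOf.1 hp, congrArg Subtype.val hpe⟩

end Cfsg.Lib.WeakJOne
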