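import Cfsg.Agent.WeakClosureJOne.Sub

/-!
The subgroup generated by the weak closures is the whole group.
-/

set_option autoImplicit false
set_option linter.unusedSectionVars false

namespace Cfsg.Lib.WeakJOne

open Subgroup

universe u

variable {G : Type u} [Group G] [Finite G]

theorem odd_conj {c b : G} (hc : c * c = 1) (hb : b * b = 1) (ho : Odd (orderOf (c * b))) :
    (c * b) ^ (orderOf (c * b) / 2) * c * ((c * b) ^ (orderOf (c * b) / 2))⁻¹ = b := by
  obtain ⟨j, hj⟩ := ho
  rw [show orderOf (c * b) / 2 = j by omega]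
  set d := c * b with hd
  have hci : c⁻¹ = c := inv_eq_of_mul_eq_one_left hc
  have hinv : c * d * c⁻¹ = d⁻¹ := by
    rw [hd, hci, mul_inv_rev, inv_eq_of_mul_eq_one_left hb, hci, ← mul_assoc, hc, one_mul]
  have hcd : c * (d ^ j)⁻¹ = d ^ j * c := by
    have h := conj_pow (i := j) (a := c) (b := d)
    rw [hinv, inv_pow] at h
    rw [h, hci, show c * (c * d ^ j * c) = (c * c) * d ^ j * c by group, hc, one_mul]
  have hdd : d ^ j * d ^ j = d⁻¹ := eq_inv_of_mul_eq_one_left (by
    rw [← pow_add, ← pow_succ, show j + j + 1 = orderOf d by omega, pow_orderOf_eq_one])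
  rw [mul_assoc, hcd, ← mul_assoc, hdd, hd, mul_inv_rev, hci, inv_eq_of_mul_eq_one_left hb, mul_assoc, hc, mul_one]

namespace Frame

variable {t : G} (F : Frame G t) (ih : IH G) (hX : F.X ≠ ⊤)

include F in
theorem class_sq {y : G} (hy : IsConj t y) : y * y = 1 ∧ y ≠ 1 := by
  obtain ⟨g, rfl⟩ := isConj_iff.1 hy
  exact ⟨conj_sq g F.t_sq, conj_ne g F.t_ne⟩

include ih hX in
theorem odd_prod {c b : G} (hc : c ∈ F.X) (hcc : c * c = 1) (hc1 : c ≠ 1) (hb : IsConj t b) (hbX : b ∉ F.X) :
    Odd (orderOf (c * b)) := by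
  classical
  haveI : Fact (Nat.Prime 2) := ⟨Nat.prime_two⟩
  by_contra hodd
  rw [Nat.not_odd_iff_even] at hodd
  obtain ⟨m, hm⟩ := hodd
  obtain ⟨hbb, hb1⟩ := F.class_sq hb
  set d := c * b with hd
  have hci : c⁻¹ = c := inv_eq_of_mul_eq_one_left hcc
  have hdpos := orderOf_pos d
  set z := d ^ m with hz
  have hzz : z * z = 1 := by rw [hz, ← pow_add, ← hm, pow_orderOf_eq_one]
  have hz1 : z ≠ 1 := fun h => by
    have := Nat.le_of_dvd (by omega) (orderOf_dvd_of_pow_eq_one h)
    omega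
  have hinv : c * d * c⁻¹ = d⁻¹ := by
    rw [hd, hci, mul_inv_rev, inv_eq_of_mul_eq_one_left hbb, hci, ← mul_assoc, hcc, one_mul]
  have hcz : c * z = z * c := by
    refine mul_inv_eq_iff_eq_mul.1 ?_
    rw [hz, ← conj_pow, hinv, inv_pow]
    exact inv_eq_of_mul_eq_one_left hzz
  have hbz : b * z = z * b := by
    have hbd : b = c * d := by rw [hd, ← mul_assoc, hcc, one_mul]
    rw [hbd]
    exact ((show Commute c z from hcz).mul_left (Commute.self_pow d m)).eq
  -- `c z` is conjugate to `c` or to `b`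
  have hczc : IsConj t (c * z) := by
    have hdn : ∀ n : ℕ, c * (d ^ n)⁻¹ = d ^ n * c := fun n => by
      have h := conj_pow (i := n) (a := c) (b := d)
      rw [hinv, inv_pow] at h
      rw [h, hci, show c * (c * d ^ n * c) = (c * c) * d ^ n * c by group, hcc, one_mul]
    have hcX : IsConj t c := F.X_class ih hX hc hcc hc1
    obtain ⟨k, rfl | rfl⟩ := m.even_or_odd'
    · refine hcX.trans (isConj_iff.2 ⟨(d ^ k)⁻¹, ?_⟩)
      rw [inv_inv, show (d ^ k)⁻¹ * c * d ^ k = (c * (c * (d ^ k)⁻¹)) * (c * d ^ k) by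
        rw [← mul_assoc c c, hcc, one_mul, mul_assoc]]
      rw [hdn k, hz, two_mul, pow_add,
        show c * (d ^ k * c) * (c * d ^ k) = c * d ^ k * (c * c) * d ^ k by group, hcc, mul_one, mul_assoc]
    · refine hb.trans (isConj_iff.2 ⟨(d ^ k)⁻¹, ?_⟩)
      have hbd : b = c * d := by rw [hd, ← mul_assoc, hcc, one_mul]
      rw [inv_inv, hz, hbd, pow_succ, two_mul, pow_add]
      have e : (d ^ k)⁻¹ * c = c * d ^ k := by
        rw [show (d ^ k)⁻¹ * c = c * (c * (d ^ k)⁻¹) * c by rw [← mul_assoc c c, hcc, one_mul], hdn k,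
          show c * (d ^ k * c) * c = c * d ^ k * (c * c) by group, hcc, mul_one]
      rw [← mul_assoc, e]
      simp only [mul_assoc]
      rw [← (Commute.self_pow d k).eq]
  have hzX : z ∈ F.X := by
    have hcW := F.weak_in_X ih hX hc hcc hc1 (mem_wcl ((F.X_class ih hX hc hcc hc1).symm.trans hczc) (by
      rw [mul_assoc, ← hcz]))
    have := mul_mem hc hcW
    rwa [← mul_assoc, hcc, one_mul] at this
  exact hbX (F.weak_in_X ih hX hzX hzz hz1 (mem_wcl ((F.X_class ih hX hzX hzz hz1).symm.trans hb) hbz))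

include ih hX in
/-- A proper subgroup containing a weak closure from `X` has its class elements in `X`. -/
theorem class_in_X_at {Y : Subgroup G} (hY : Y ≠ ⊤) {a : G} (ha : a ∈ F.X) (haa : a * a = 1) (ha1 : a ≠ 1)
    (hW : wcl a ≤ Y) {b : G} (hb : b ∈ Y) (hbc : IsConj t b) : b ∈ F.X := by
  by_contra hbX
  obtain ⟨g, hg, hga⟩ := F.X_conj ih hX ha haa ha1
  set Y' := Y.map (MulAut.conj g⁻¹).toMonoidHom with hY'
  have hY't : Y' ≠ ⊤ := fun h => hY (eq_top_iff.2 fun y _ => by
    have : g⁻¹ * y * g ∈ Y' := h ▸ mem_top _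
    rw [hY', mem_map_equiv, MulAut.conj_symm_apply] at this
    simpa [mul_assoc] using this)
  have hW' : wcl t ≤ Y' := by
    intro x hx
    rw [hY', mem_map_equiv, MulAut.conj_symm_apply, inv_inv]
    exact hW (hga ▸ conj_mem_wcl hx)
  set b' := g⁻¹ * b * g with hb'
  have hb'Y : b' ∈ Y' := ⟨b, hb, by simp [hb']⟩
  have hb'c : IsConj t b' := hbc.trans (isConj_iff.2 ⟨g⁻¹, by rw [inv_inv]⟩)
  have hb'X : b' ∉ F.X := fun h => hbX (by
    have := mul_mem (mul_mem hg h) (inv_mem hg)
    rwa [hb', show g * (g⁻¹ * b * g) * g⁻¹ = b by group] at this)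
  obtain ⟨hb'b, -⟩ := F.class_sq hb'c
  have key : ∀ c ∈ F.A, c ≠ 1 → ∃ y ∈ Y', y * c * y⁻¹ = b' := fun c hc hc1 => by
    have hcX : c ∈ F.X := F.wcl_le_X (F.A_le_wcl hc)
    have hcY : c ∈ Y' := hW' (F.A_le_wcl hc)
    exact ⟨_, pow_mem (mul_mem hcY hb'Y) _, odd_conj (F.sq_A hc) hb'b
      (F.odd_prod ih hX hcX (F.sq_A hc) hc1 hb'c hb'X)⟩
  refine hb'X (F.class_in_X ih hX hY't hW' (fun c hc hc1 => ?_) hb'Y hb'c)
  obtain ⟨y₁, hy₁, e₁⟩ := key t F.t_mem F.t_ne
  obtain ⟨y₂, hy₂, e₂⟩ := key c hc hc1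
  refine ⟨y₂⁻¹ * y₁, mul_mem (inv_mem hy₂) hy₁, ?_⟩
  rw [show y₂⁻¹ * y₁ * t * (y₂⁻¹ * y₁)⁻¹ = y₂⁻¹ * (y₁ * t * y₁⁻¹) * y₂ by group, e₁, ← e₂]
  group

include ih hX in
theorem X_cent_trivial {x : G} (hx : x ∈ F.X) (hc : x ∈ centralizer ((F.X : Subgroup G) : Set G)) : x = 1 := by
  haveI := jOne_simple (F.isoJOne_X ih hX)
  rcases (inferInstance : (Subgroup.center F.X).Normal).eq_bot_or_eq_top with h | h
  · have : (⟨x, hx⟩ : F.X) ∈ Subgroup.center F.X :=
      mem_center_iff.2 fun z => Subtype.ext (mem_centralizer_iff.1 hc z z.2)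
    rw [h, mem_bot] at this
    exact congrArg Subtype.val this
  · exfalso
    set τ : F.X := ⟨t, F.wcl_le_X (F.A_le_wcl F.t_mem)⟩
    have htop : centralizer ({τ} : Set F.X) = ⊤ :=
      eq_top_iff.2 fun z _ => mem_centralizer_singleton_iff.2 ((mem_center_iff.1 (h ▸ mem_top τ)) z)
    have := jOne_cent (F.isoJOne_X ih hX) (a := τ) (Subtype.ext F.t_sq) (fun e => F.t_ne (congrArg Subtype.val e))
    rw [htop, Subgroup.card_top, jOne_card (F.isoJOne_X ih hX)] at this
    norm_num at this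

include ih hX in
/-- The contradiction. -/
theorem X_eq_top (hN : Subgroup.normalClosure ({t} : Set G) = ⊤) (hZ : center G = ⊥) : False := by
  classical
  haveI : Fact (Nat.Prime 2) := ⟨Nat.prime_two⟩
  have htX : t ∈ F.X := F.wcl_le_X (F.A_le_wcl F.t_mem)
  set M := normalizer ((F.X : Subgroup G) : Set G) with hM
  have hMtop : M ≠ ⊤ := fun h => hX (by
    have : F.X.Normal := normalizer_eq_top_iff.1 h
    rw [eq_top_iff, ← hN]
    exact normalClosure_le_normal (by simpa using htX))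
  have hclsM : ∀ y, IsConj t y → y ∈ M → y ∈ F.X := fun y hy hyM =>
    F.class_in_X ih hX hMtop (F.wcl_le_X.trans le_normalizer)
      (fun a ha ha1 => (F.X_fusion ha ha1).imp fun g hg => ⟨le_normalizer hg.1, hg.2⟩) hyM hy
  have hcX : ∀ {a}, a ∈ F.X → ∀ {q}, q ∈ centralizer ((F.X : Subgroup G) : Set G) → a * q = q * a :=
    fun ha _ hq => mem_centralizer_iff.1 hq _ ha
  -- involutions of `X`
  let Cset := {x : G // x ∈ F.X ∧ x * x = 1 ∧ x ≠ 1}
  set τ : F.X := ⟨t, htX⟩ with hτ
  have hC : Nat.card Cset = 1463 := by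
    let f : F.X ⧸ centralizer ({τ} : Set F.X) → Cset :=
      Quotient.lift (fun g => ⟨((g * τ * g⁻¹ : F.X) : G), (g * τ * g⁻¹).2, conj_sq (g : G) F.t_sq,
        conj_ne (g : G) F.t_ne⟩) (by
        intro a b hab
        have hc := mem_centralizer_singleton_iff.1 (QuotientGroup.leftRel_apply.1 hab)
        refine Subtype.ext ?_
        show ((a * τ * a⁻¹ : F.X) : G) = ((b * τ * b⁻¹ : F.X) : G)
        refine congrArg Subtype.val ?_
        calc a * τ * a⁻¹ = a * (τ * (a⁻¹ * b)) * b⁻¹ := by group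
          _ = b * τ * b⁻¹ := by rw [← hc]; group)
    have hf : Function.Bijective f := by
      constructor
      · intro p q h
        obtain ⟨a, rfl⟩ := QuotientGroup.mk_surjective p
        obtain ⟨b, rfl⟩ := QuotientGroup.mk_surjective q
        have h' : a * τ * a⁻¹ = b * τ * b⁻¹ := Subtype.ext (congrArg Subtype.val h :)
        refine QuotientGroup.eq.2 (mem_centralizer_singleton_iff.2 ?_)
        calc a⁻¹ * b * τ = a⁻¹ * (b * τ * b⁻¹) * b := by group
          _ = τ * (a⁻¹ * b) := by rw [← h']; group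
      · rintro ⟨x, hx, hxx, hx1⟩
        obtain ⟨g, hg, hgx⟩ := F.X_conj ih hX hx hxx hx1
        exact ⟨QuotientGroup.mk ⟨g, hg⟩, Subtype.ext hgx⟩
    have h := card_mul_index (centralizer ({τ} : Set F.X))
    rw [jOne_cent (F.isoJOne_X ih hX) (a := τ) (Subtype.ext F.t_sq) (fun e => F.t_ne (congrArg Subtype.val e)),
      jOne_card (F.isoJOne_X ih hX)] at h
    rw [← Nat.card_eq_of_bijective f hf, ← Subgroup.index_eq_card]
    omega
  -- the class
  have hCM : centralizer ({t} : Set G) ≤ M := fun g hg =>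
    F.mem_normalizer_of_conj ih hX htX F.t_sq F.t_ne (by
      rw [mem_centralizer_singleton_iff.1 hg, mul_inv_cancel_right]; exact htX)
  have hrel : (centralizer ({t} : Set G)).relIndex M = Nat.card Cset := by
    rw [Subgroup.relIndex, Subgroup.index_eq_card]
    let f : M ⧸ (centralizer ({t} : Set G)).subgroupOf M → Cset :=
      Quotient.lift (fun g => ⟨(g : G) * t * (g : G)⁻¹, (mem_normalizer_iff.1 g.2 t).1 htX, conj_sq _ F.t_sq,
        conj_ne _ F.t_ne⟩) (by
        intro a b hab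
        have hc := mem_centralizer_singleton_iff.1 (mem_subgroupOf.1 (QuotientGroup.leftRel_apply.1 hab))
        push_cast at hc
        refine Subtype.ext ?_
        show (a : G) * t * (a : G)⁻¹ = (b : G) * t * (b : G)⁻¹
        calc (a : G) * t * (a : G)⁻¹ = (a : G) * (t * ((a : G)⁻¹ * b)) * (b : G)⁻¹ := by group
          _ = (b : G) * t * (b : G)⁻¹ := by rw [← hc]; group)
    refine Nat.card_eq_of_bijective f ⟨fun p q h => ?_, fun x => ?_⟩
    · obtain ⟨a, rfl⟩ := QuotientGroup.mk_surjective p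
      obtain ⟨b, rfl⟩ := QuotientGroup.mk_surjective q
      have h' : (a : G) * t * (a : G)⁻¹ = (b : G) * t * (b : G)⁻¹ := congrArg Subtype.val h
      refine QuotientGroup.eq.2 (mem_subgroupOf.2 (mem_centralizer_singleton_iff.2 ?_))
      push_cast
      calc (a : G)⁻¹ * b * t = (a : G)⁻¹ * ((b : G) * t * (b : G)⁻¹) * b := by group
        _ = t * ((a : G)⁻¹ * b) := by rw [← h']; group
    · obtain ⟨g, hg, hgx⟩ := F.X_conj ih hX x.2.1 x.2.2.1 x.2.2.2
      exact ⟨QuotientGroup.mk ⟨g, le_normalizer hg⟩, Subtype.ext hgx⟩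
  have hcls : Nat.card {x : G // IsConj t x} = 1463 * M.index := by
    let f : G ⧸ centralizer ({t} : Set G) → {x : G // IsConj t x} :=
      Quotient.lift (fun g => ⟨g * t * g⁻¹, isConj_iff.2 ⟨g, rfl⟩⟩) (by
        intro a b hab
        have hc := mem_centralizer_singleton_iff.1 (QuotientGroup.leftRel_apply.1 hab)
        refine Subtype.ext ?_
        show a * t * a⁻¹ = b * t * b⁻¹
        calc a * t * a⁻¹ = a * (t * (a⁻¹ * b)) * b⁻¹ := by group
          _ = b * t * b⁻¹ := by rw [← hc]; group)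
    have hf : Function.Bijective f := by
      constructor
      · intro p q h
        obtain ⟨a, rfl⟩ := QuotientGroup.mk_surjective p
        obtain ⟨b, rfl⟩ := QuotientGroup.mk_surjective q
        have h' : a * t * a⁻¹ = b * t * b⁻¹ := congrArg Subtype.val h
        refine QuotientGroup.eq.2 (mem_centralizer_singleton_iff.2 ?_)
        calc a⁻¹ * b * t = a⁻¹ * (b * t * b⁻¹) * b := by group
          _ = t * (a⁻¹ * b) := by rw [← h']; group
      · rintro ⟨x, hx⟩
        obtain ⟨g, hg⟩ := isConj_iff.1 hx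
        exact ⟨QuotientGroup.mk g, Subtype.ext hg⟩
    rw [← Nat.card_eq_of_bijective f hf, ← Subgroup.index_eq_card, ← relIndex_mul_index hCM, hrel, hC]
  let Outer := {y : G // IsConj t y ∧ y ∉ M}
  have hout : Nat.card Outer + 1463 = 1463 * M.index := by
    let e : {x : G // IsConj t x} ≃ Outer ⊕ Cset :=
      { toFun := fun x => if h : x.1 ∈ M then .inr ⟨x.1, hclsM _ x.2 h, F.class_sq x.2⟩ else .inl ⟨x.1, x.2, h⟩
        invFun := Sum.elim (fun x => ⟨x.1, x.2.1⟩) (fun x => ⟨x.1, F.X_class ih hX x.2.1 x.2.2.1 x.2.2.2⟩)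
        left_inv := fun x => by by_cases h : x.1 ∈ M <;> simp [h]
        right_inv := fun x => by
          rcases x with x | x
          · simp [x.2.2]
          · simp [le_normalizer x.2.1, hM] }
    rw [← hcls, Nat.card_congr e, Nat.card_sum, hC]
  -- each coset
  have hfib : ∀ y : Outer, Nat.card {y' : Outer // y.1 * y'.1 ∈ M} ≤ 361 := by
    intro y
    obtain ⟨hyy, hy1⟩ := F.class_sq y.2.1
    have hyi : y.1⁻¹ = y.1 := inv_eq_of_mul_eq_one_left hyy
    let D : Subgroup G := M ⊓ M.comap (MulAut.conj y.1).toMonoidHom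
    have hDmem : ∀ d, d ∈ D ↔ d ∈ M ∧ y.1 * d * y.1 ∈ M := fun d => by
      simp [D, hyi]
    have hback : ∀ d, d ∈ D → y.1 * d * y.1 ∈ D := fun d hd => by
      obtain ⟨h1, h2⟩ := (hDmem d).1 hd
      refine (hDmem _).2 ⟨h2, ?_⟩
      rwa [show y.1 * (y.1 * d * y.1) * y.1 = y.1 * y.1 * d * (y.1 * y.1) by group, hyy, one_mul, mul_one]
    -- an involution of `D` centralises a weak closure in `X` and one outside
    have hin : ∀ i ∈ D, i * i = 1 → i ≠ 1 → ∃ a ∈ F.X, a * a = 1 ∧ a ≠ 1 ∧ wcl a ≤ centralizer ({i} : Set G) := by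
      intro i hi hii hi1
      obtain ⟨x, hx, q, hq, rfl⟩ := (F.mem_normalizer_iff_conj ih hX).1 ((hDmem i).1 hi).1
      have hxx : x * x = 1 := by
        have e : x * x * (q * q) = 1 := by
          calc x * x * (q * q) = x * (x * q) * q := by group
            _ = x * (q * x) * q := by rw [hcX hx hq]
            _ = 1 := by rw [← hii]; group
        exact F.X_cent_trivial ih hX (mul_mem hx hx)
          (by rw [eq_inv_of_mul_eq_one_left e]; exact inv_mem (mul_mem hq hq))
      by_cases hx1 : x = 1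
      · refine ⟨t, htX, F.t_sq, F.t_ne, fun z hz => mem_centralizer_singleton_iff.2 ?_⟩
        rw [hx1, one_mul]
        exact hcX (F.wcl_le_X hz) hq
      · refine ⟨x, hx, hxx, hx1, fun z hz => mem_centralizer_singleton_iff.2 ?_⟩
        exact ((show Commute z x from mem_centralizer_singleton_iff.1 (wcl_le_centralizer x hz)).mul_right
          (hcX (F.weak_in_X ih hX hx hxx hx1 hz) hq)).eq
    have hDodd : ∀ i ∈ D, i * i = 1 → i = 1 := by
      intro i hi hii
      by_contra hi1
      obtain ⟨a, ha, haa, ha1, haW⟩ := hin i hi hii hi1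
      have hi' := hback i hi
      have hii' : y.1 * i * y.1 * (y.1 * i * y.1) = 1 := by
        rw [show y.1 * i * y.1 * (y.1 * i * y.1) = y.1 * i * (y.1 * y.1) * i * y.1 by group, hyy, mul_one,
          show y.1 * i * i * y.1 = y.1 * (i * i) * y.1 by group, hii, mul_one, hyy]
      have hi1' : y.1 * i * y.1 ≠ 1 := fun h => hi1 (by
        calc i = (y.1 * y.1) * i * (y.1 * y.1) := by rw [hyy, one_mul, mul_one]
          _ = y.1 * (y.1 * i * y.1) * y.1 := by group
          _ = 1 := by rw [h, mul_one, hyy])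
      obtain ⟨a', ha', haa', ha1', haW'⟩ := hin _ hi' hii' hi1'
      have hbi : y.1 * a' * y.1⁻¹ * i = i * (y.1 * a' * y.1⁻¹) := by
        have := mem_centralizer_singleton_iff.1 (haW' (mem_wcl (IsConj.refl a') rfl))
        calc y.1 * a' * y.1⁻¹ * i = y.1 * (a' * (y.1 * i * y.1)) * y.1⁻¹ := by rw [hyi]; simp [mul_assoc, hyy]
          _ = y.1 * (y.1 * i * y.1 * a') * y.1⁻¹ := by rw [this]
          _ = i * (y.1 * a' * y.1⁻¹) := by rw [hyi]; simp [← mul_assoc, hyy]
      have hY : centralizer ({i} : Set G) ≠ ⊤ := fun h => hi1 (by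
        have : i ∈ center G := mem_center_iff.2 fun g =>
          mem_centralizer_singleton_iff.1 (show g ∈ centralizer ({i} : Set G) from h ▸ mem_top g)
        rwa [hZ, mem_bot] at this)
      have hbX := F.class_in_X_at ih hX hY ha haa ha1 haW (mem_centralizer_singleton_iff.2 hbi)
        ((F.X_class ih hX ha' haa' ha1').trans (isConj_iff.2 ⟨y.1, rfl⟩))
      exact y.2.2 (F.mem_normalizer_of_conj ih hX ha' haa' ha1' hbX)
    -- the projection to `X`
    let P : Subgroup F.X :=
      { carrier := {x | ∃ q ∈ centralizer ((F.X : Subgroup G) : Set G), (x : G) * q ∈ D}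
        one_mem' := ⟨1, one_mem _, by simp [one_mem]⟩
        mul_mem' := by
          rintro x x' ⟨q, hq, h⟩ ⟨q', hq', h'⟩
          refine ⟨q * q', mul_mem hq hq', ?_⟩
          have := mul_mem h h'
          rw [Subgroup.coe_mul]
          rwa [show (x : G) * q * ((x' : G) * q') = (x : G) * (q * x') * q' by group, ← hcX x'.2 hq,
            show (x : G) * (x' * q) * q' = (x : G) * x' * (q * q') by group] at this
        inv_mem' := by
          rintro x ⟨q, hq, h⟩
          refine ⟨q⁻¹, inv_mem hq, ?_⟩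
          have := inv_mem h
          rwa [mul_inv_rev, ← Subgroup.coe_inv, ← hcX (x⁻¹).2 (inv_mem hq)] at this }
    have hPodd : ¬ 2 ∣ Nat.card P := by
      intro h2
      obtain ⟨⟨x, q, hq, hxq⟩, hxo⟩ := exists_prime_orderOf_dvd_card' 2 h2
      rw [← Subgroup.orderOf_coe] at hxo
      simp only at hxo
      rw [← Subgroup.orderOf_coe] at hxo
      have hnd : ¬ 2 ∣ orderOf ((x : G) * q) := by
        intro h
        obtain ⟨m, hm⟩ := h
        have hpos := orderOf_pos ((x : G) * q)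
        have := hDodd _ (pow_mem hxq m) (by rw [← pow_add, ← two_mul, ← hm, pow_orderOf_eq_one])
        have := Nat.le_of_dvd (by omega) (orderOf_dvd_of_pow_eq_one this)
        omega
      have hp : ((x : G) * q) ^ orderOf ((x : G) * q) = 1 := pow_orderOf_eq_one _
      rw [(show Commute (x : G) q from hcX x.2 hq).mul_pow] at hp
      have hx1 : (x : G) ^ orderOf ((x : G) * q) = 1 := F.X_cent_trivial ih hX (pow_mem x.2 _)
        (by rw [eq_inv_of_mul_eq_one_left hp]; exact inv_mem (pow_mem hq _))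
      exact hnd (hxo ▸ orderOf_dvd_of_pow_eq_one hx1)
    have hP := jOne_odd (F.isoJOne_X ih hX) hPodd
    have hdec : ∀ y' : {y' : Outer // y.1 * y'.1 ∈ M}, ∃ x : F.X, x ∈ P ∧
        ∃ q ∈ centralizer ((F.X : Subgroup G) : Set G), y.1 * y'.1.1 = x * q := by
      intro y'
      obtain ⟨x, hx, q, hq, e⟩ := (F.mem_normalizer_iff_conj ih hX).1 y'.2
      refine ⟨⟨x, hx⟩, ⟨q, hq, ?_⟩, q, hq, e⟩
      rw [← e]
      refine (hDmem _).2 ⟨y'.2, ?_⟩
      have hy'y : y'.1.1⁻¹ = y'.1.1 := inv_eq_of_mul_eq_one_left (F.class_sq y'.1.2.1).1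
      rw [show y.1 * (y.1 * y'.1.1) * y.1 = (y.1 * y.1) * (y'.1.1 * y.1) by group, hyy, one_mul]
      have := inv_mem (y'.2 : y.1 * y'.1.1 ∈ M)
      rwa [mul_inv_rev, hy'y, hyi] at this
    choose fx hfP fq hfq hfe using hdec
    refine le_trans (Nat.card_le_card_of_injective (fun y' => (⟨fx y', hfP y'⟩ : P)) ?_) hP
    intro u v huv
    have hx : (fx u : G) = (fx v : G) := congrArg (fun z : P => ((z : F.X) : G)) huv
    set h := (y.1 * u.1.1)⁻¹ * (y.1 * v.1.1) with hh
    set h' := y.1 * u.1.1 * (y.1 * v.1.1)⁻¹ with hh'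
    have e1 : h = (fq u)⁻¹ * fq v := by rw [hh, hfe, hfe, hx]; group
    have e2 : h' = fq u * (fq v)⁻¹ := by
      have hc := hcX (fx v).2 (mul_mem (hfq u) (inv_mem (hfq v)))
      calc h' = (fx v : G) * (fq u * (fq v)⁻¹) * (fx v : G)⁻¹ := by rw [hh', hfe, hfe, hx]; group
        _ = _ := by rw [hc, mul_inv_cancel_right]
    have hhc : h ∈ centralizer ((F.X : Subgroup G) : Set G) := e1 ▸ mul_mem (inv_mem (hfq u)) (hfq v)
    have hh'c : h' ∈ centralizer ((F.X : Subgroup G) : Set G) := e2 ▸ mul_mem (hfq u) (inv_mem (hfq v))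
    have hyh : y.1 * h * y.1 = h' := by
      rw [hh, hh', mul_inv_rev, mul_inv_rev, inv_eq_of_mul_eq_one_left (F.class_sq u.1.2.1).1,
        inv_eq_of_mul_eq_one_left (F.class_sq v.1.2.1).1, hyi]
      simp [mul_assoc, hyy]
      rw [← mul_assoc y.1 y.1, hyy, one_mul]
    have hone : h = 1 := by
      by_contra hne
      have hY : centralizer ({h} : Set G) ≠ ⊤ := fun e => hne (by
        have : h ∈ center G := mem_center_iff.2 fun g =>
          mem_centralizer_singleton_iff.1 (show g ∈ centralizer ({h} : Set G) from e ▸ mem_top g)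
        rwa [hZ, mem_bot] at this)
      have hW : wcl t ≤ centralizer ({h} : Set G) := fun z hz =>
        mem_centralizer_singleton_iff.2 (hcX (F.wcl_le_X hz) hhc)
      have hb : y.1 * t * y.1⁻¹ * h = h * (y.1 * t * y.1⁻¹) := by
        have e : h = y.1 * h' * y.1⁻¹ := by
          rw [hyi, ← hyh, show y.1 * (y.1 * h * y.1) * y.1 = (y.1 * y.1) * h * (y.1 * y.1) by group, hyy, one_mul,
            mul_one]
        have hc := hcX htX hh'c
        calc y.1 * t * y.1⁻¹ * h = y.1 * t * y.1⁻¹ * (y.1 * h' * y.1⁻¹) := by rw [← e]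
          _ = y.1 * (t * h') * y.1⁻¹ := by group
          _ = (y.1 * h' * y.1⁻¹) * (y.1 * t * y.1⁻¹) := by rw [hc]; group
          _ = h * (y.1 * t * y.1⁻¹) := by rw [← e]
      exact y.2.2 (F.mem_normalizer_of_conj ih hX htX F.t_sq F.t_ne
        (F.class_in_X_at ih hX hY htX F.t_sq F.t_ne hW (mem_centralizer_singleton_iff.2 hb)
          (isConj_iff.2 ⟨y.1, rfl⟩)))
    rw [hh, inv_mul_eq_one] at hone
    exact Subtype.ext (Subtype.ext (mul_left_cancel hone))
  -- the sum over the cosets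
  let Q := {q : G ⧸ M // q ≠ QuotientGroup.mk 1}
  let π : Outer → Q := fun y => ⟨QuotientGroup.mk y.1, fun h => y.2.2 (by
    have := QuotientGroup.eq.1 h
    rwa [mul_one, inv_mem_iff] at this)⟩
  haveI : Fintype Q := Fintype.ofFinite Q
  have hsum : Nat.card Outer ≤ ∑ _q : Q, 361 := by
    rw [← Nat.card_congr (Equiv.sigmaFiberEquiv π), Nat.card_sigma]
    refine Finset.sum_le_sum fun q _ => ?_
    rcases isEmpty_or_nonempty {y // π y = q} with h | ⟨⟨y⟩⟩
    · simp
    refine le_trans (Nat.card_le_card_of_injective (fun y' : {y // π y = q} =>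
      (⟨y'.1, ?_⟩ : {y' : Outer // y.1.1 * y'.1 ∈ M})) ?_) (hfib y.1)
    · have := QuotientGroup.eq.1 (congrArg Subtype.val (y.2.trans y'.2.symm))
      rwa [inv_eq_of_mul_eq_one_left (F.class_sq y.1.2.1).1] at this
    · intro a b h
      exact Subtype.ext (congrArg Subtype.val h :)
  have hQ : Fintype.card Q + 1 = M.index := by
    haveI : Fintype (G ⧸ M) := Fintype.ofFinite _
    rw [← Nat.card_eq_fintype_card, Subgroup.index_eq_card, Nat.card_eq_fintype_card, Nat.card_eq_fintype_card,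
      Fintype.card_subtype_compl, Fintype.card_subtype_eq]
    have := Fintype.card_pos_iff.2 ⟨(QuotientGroup.mk 1 : G ⧸ M)⟩
    omega
  rw [Finset.sum_const, Finset.card_univ, smul_eq_mul] at hsum
  have hidx : M.index ≠ 1 := fun h => hMtop (index_eq_one.1 h)
  omega

end Frame

end Cfsg.Lib.WeakJOne
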