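import Cfsg.Agent.WeakClosureJOne.Base

/-!
Fusion in the elementary abelian group of order eight.
-/

set_option autoImplicit false
set_option linter.unusedSectionVars false
set_option synthInstance.maxSize 2000
set_option maxRecDepth 4000

namespace Cfsg.Lib.WeakJOne

open Subgroup

universe u

variable {G : Type u} [Group G] [Finite G]

theorem conj_ne (g : G) {x : G} (hx : x ≠ 1) : g * x * g⁻¹ ≠ 1 := fun h => hx (by
  calc x = g⁻¹ * (g * x * g⁻¹) * g := by group
    _ = 1 := by rw [h]; group)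

theorem conj_sq (g : G) {x : G} (hx : x * x = 1) : g * x * g⁻¹ * (g * x * g⁻¹) = 1 := by
  calc g * x * g⁻¹ * (g * x * g⁻¹) = g * (x * x) * g⁻¹ := by group
    _ = 1 := by rw [hx]; group

theorem fixed_parity (R : Subgroup G) (hR : IsPGroup 2 R) (Pr : G → Prop)
    (hinv : ∀ r ∈ R, ∀ x, Pr x → Pr (r * x * r⁻¹)) :
    Nat.card {x // Pr x} ≡ Nat.card {x // Pr x ∧ ∀ r ∈ R, r * x = x * r} [MOD 2] := by
  haveI : Fact (Nat.Prime 2) := ⟨Nat.prime_two⟩
  let act : MulAction R {x // Pr x} :=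
    { smul := fun r x => ⟨(r : G) * x.1 * (r : G)⁻¹, hinv r r.2 x.1 x.2⟩
      one_smul := fun x => Subtype.ext (show ((1 : R) : G) * x.1 * ((1 : R) : G)⁻¹ = x.1 by simp)
      mul_smul := fun a b x => Subtype.ext (show ((a * b : R) : G) * x.1 * ((a * b : R) : G)⁻¹ =
        (a : G) * ((b : G) * x.1 * (b : G)⁻¹) * (a : G)⁻¹ by simp [mul_assoc]) }
  have h := @IsPGroup.card_modEq_card_fixedPoints 2 R _ hR _ {x // Pr x} act _
  refine h.trans (congrArg (· % 2) (Nat.card_congr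
    { toFun := fun x => ⟨x.1.1, x.1.2, fun r hr => ?_⟩
      invFun := fun x => ⟨⟨x.1, x.2.1⟩, fun r => Subtype.ext ?_⟩
      left_inv := fun _ => rfl
      right_inv := fun _ => rfl }))
  · have := congrArg Subtype.val (x.2 (⟨r, hr⟩ : R))
    exact mul_inv_eq_iff_eq_mul.1 this
  · show (r : G) * x.1 * (r : G)⁻¹ = x.1
    rw [x.2.2 r r.2, mul_inv_cancel_right]

namespace Frame

variable {t : G} (F : Frame G t)

theorem conj_t {g a : G} (hga : g * t = t * g) : IsConj t a → IsConj t (g * a * g⁻¹) := fun h =>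
  h.trans (isConj_iff.2 ⟨g, rfl⟩)

theorem cls_W {w a : G} (hw : w ∈ wcl t) (ha : IsConj t a) : IsConj t (w * a * w⁻¹) :=
  conj_t (mem_centralizer_singleton_iff.1 (wcl_le_centralizer t hw)) ha

theorem S_norm_A {s a : G} (hs : s ∈ (F.S : Subgroup G)) (ha : a ∈ F.A) : s * a * s⁻¹ ∈ F.A :=
  F.S_inter (conj_wcl_self (F.htc s hs) (F.A_le_wcl ha))
    (mul_mem (mul_mem hs (F.A_le_S ha)) (inv_mem hs))

theorem inE_A {x : G} (hx : x ∈ F.A) (hE : F.InE x) :
    x = 1 ∨ x = F.φ uM ∨ x = F.φ vM ∨ x = F.φ (uM * vM) := by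
  obtain ⟨g, hg, rfl⟩ := hx
  rcases inA_fst g hg (F.inE_iff.1 hE) with rfl | rfl | rfl | rfl
  · exact Or.inl (map_one _)
  all_goals tauto

/-- All involutions of `A` are conjugate to `t`. -/
theorem all_class {a : G} (ha : a ∈ F.A) (ha1 : a ≠ 1) : IsConj t a := by
  classical
  haveI : Fact (Nat.Prime 2) := ⟨Nat.prime_two⟩
  have hty : (F.φ yM) * t = t * F.φ yM := mem_centralizer_singleton_iff.1 (wcl_le_centralizer t (F.mem_range yM))
  have horb : ∀ g : WM, inA g → IsConj t (F.φ g) → IsConj t (F.φ (yM * g * yM⁻¹)) := fun g _ h => by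
    rw [map_mul, map_mul, map_inv]
    exact conj_t hty h
  have key : ∀ g : WM, inA g → g ≠ 1 → g ≠ zM →
      (∀ h : WM, inA h → IsConj t (F.φ h) → IsConj t (F.φ (yM * h * yM⁻¹))) →
      IsConj t (F.φ g) → ∀ h : WM, inA h → h ≠ 1 → h ≠ zM → h.1 = g.1 → IsConj t (F.φ h) := by
    intro g hg hg1 hgz horb hgc h hh hh1 hhz hfst
    have h1 := horb g hg hgc
    have h2 := horb _ (inA_closed.2.2.2.2 g hg) h1
    have : h = g ∨ h = yM * g * yM⁻¹ ∨ h = yM * (yM * g * yM⁻¹) * yM⁻¹ := by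
      exact three_orbit g hg hg1 hgz h hh hh1 hhz hfst
    rcases this with rfl | rfl | rfl
    · exact hgc
    · exact h1
    · exact h2
  by_contra hna
  obtain ⟨ga, hga, rfl⟩ := ha
  have hga1 : ga ≠ 1 := fun h => ha1 (by rw [h, map_one])
  have hgaz : ga ≠ zM := fun h => hna (by rw [h, F.map_z])
  -- another class element
  have hex : ∃ g : WM, inA g ∧ g ≠ 1 ∧ g ≠ zM ∧ IsConj t (F.φ g) := by
    by_contra hcon
    push Not at hcon
    have hle : wcl t ≤ (zpowers t) := by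
      refine (closure_le _).2 ?_
      rintro x ⟨g, rfl, hc⟩
      have hxW : g * t * g⁻¹ ∈ wcl t := mem_wcl (isConj_iff.2 ⟨g, rfl⟩) hc
      have hp : IsPGroup 2 ((zpowers (g * t * g⁻¹)).subgroupOf (wcl t)) := IsPGroup.of_card (n := 1) (by
        rw [Nat.card_congr (subgroupOfEquivOfLe (zpowers_le.2 hxW)).toEquiv, Nat.card_zpowers, pow_one]
        exact orderOf_eq_prime (by rw [pow_two, conj_sq g F.t_sq]) (conj_ne g F.t_ne))
      obtain ⟨R, hR⟩ := hp.exists_le_sylow
      have hR8 : Nat.card ((R : Subgroup (wcl t)).map (wcl t).subtype) = 8 := by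
        rw [card_map_of_injective (wcl t).subtype_injective]
        have hA : Nat.card (F.A.subgroupOf (wcl t)) = 8 := by
          rw [Nat.card_congr (subgroupOfEquivOfLe F.A_le_wcl).toEquiv, F.card_A]
        have hW : Nat.card (wcl t) = 120 := by
          rw [← F.range_eq, ← Nat.card_congr (MonoidHom.ofInjective F.inj).toEquiv, Nat.card_prod,
            Nat.card_eq_fintype_card, Nat.card_eq_fintype_card]
          decide +kernel
        rw [R.card_eq_multiplicity, hW, show (120 : ℕ) = 2 ^ 3 * 15 from rfl,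
          Nat.factorization_mul (by norm_num) (by norm_num), Finsupp.add_apply,
          Nat.factorization_eq_zero_of_not_dvd (show ¬ 2 ∣ 15 by norm_num), Nat.Prime.factorization_pow Nat.prime_two]
        simp
      obtain ⟨c, hc, hciff⟩ := F.sylow_wcl (map_subtype_le _) hR8
      obtain ⟨y, hy, hye⟩ := (hciff _).1 ⟨⟨g * t * g⁻¹, hxW⟩, hR (mem_subgroupOf.2 (mem_zpowers _)), rfl⟩
      have hyc : IsConj t (F.φ y) := hye ▸ cls_W hc (isConj_iff.2 ⟨g, rfl⟩)
      have hy1 : y ≠ 1 := fun h => by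
        rw [h, map_one] at hye
        exact conj_ne c (conj_ne g F.t_ne) hye.symm
      by_cases hyz : y = zM
      · rw [hyz, F.map_z] at hye
        have hct : c * t = t * c := mem_centralizer_singleton_iff.1 (wcl_le_centralizer t hc)
        have : g * t * g⁻¹ = t := by
          calc g * t * g⁻¹ = c⁻¹ * (c * (g * t * g⁻¹) * c⁻¹) * c := by group
            _ = c⁻¹ * (t * c) := by
              rw [show c * (g * t * g⁻¹) * c⁻¹ = t from hye.symm]; group
            _ = t := by rw [← hct, inv_mul_cancel_left]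
        rw [SetLike.mem_coe, this]
        exact mem_zpowers t
      · exact absurd hyc (hcon y hy hy1 hyz)
    have hcard := card_dvd_of_le hle
    rw [Nat.card_zpowers, ← F.range_eq, ← Nat.card_congr (MonoidHom.ofInjective F.inj).toEquiv,
      orderOf_eq_prime (p := 2) (by rw [pow_two, F.t_sq]) F.t_ne, Nat.card_prod, Nat.card_eq_fintype_card,
      Nat.card_eq_fintype_card] at hcard
    exact absurd (Nat.le_of_dvd (by norm_num) hcard) (by decide +kernel)
  obtain ⟨g₁, hg₁, hg₁1, hg₁z, hg₁c⟩ := hex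
  have hfst : ga.1 ≠ g₁.1 := fun h => hna (key g₁ hg₁ hg₁1 hg₁z horb hg₁c ga hga hga1 hgaz h)
  -- the class elements in `A`
  set ε := g₁.1 with hε
  have hcls : ∀ g : WM, inA g → (IsConj t (F.φ g) ↔ g = zM ∨ (g ≠ 1 ∧ g ≠ zM ∧ g.1 = ε)) := by
    intro g hg
    constructor
    · intro hgc
      by_cases hz : g = zM
      · exact Or.inl hz
      have hg1 : g ≠ 1 := fun h => F.t_ne (isConj_one_left.1 (by rw [h, map_one] at hgc; exact hgc))
      refine Or.inr ⟨hg1, hz, ?_⟩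
      by_contra hne
      exact hna (key g hg hg1 hz horb hgc ga hga hga1 hgaz (two_values _ _ _ hne hfst))
    · rintro (rfl | ⟨h1, h2, h3⟩)
      · rw [F.map_z]
      · exact key g₁ hg₁ hg₁1 hg₁z horb hg₁c g hg h1 h2 h3
  -- parity of the class
  have hodd : ¬ 2 ∣ Nat.card {x : G // IsConj t x} := by
    let f : G ⧸ centralizer ({t} : Set G) → {x : G // IsConj t x} :=
      Quotient.lift (fun g => ⟨g * t * g⁻¹, isConj_iff.2 ⟨g, rfl⟩⟩) (by
        intro a b hab
        have hc := mem_centralizer_singleton_iff.1 (QuotientGroup.leftRel_apply.1 hab)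
        refine Subtype.ext ?_
        show a * t * a⁻¹ = b * t * b⁻¹
        calc a * t * a⁻¹ = a * (t * (a⁻¹ * b)) * b⁻¹ := by group
          _ = b * t * b⁻¹ := by rw [← hc]; group)
    have hf : Function.Bijective f := by
      constructor
      · intro p q h
        obtain ⟨a, rfl⟩ := QuotientGroup.mk_surjective p
        obtain ⟨b, rfl⟩ := QuotientGroup.mk_surjective q
        have h' : a * t * a⁻¹ = b * t * b⁻¹ := congrArg Subtype.val h
        refine QuotientGroup.eq.2 (mem_centralizer_singleton_iff.2 ?_)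
        calc a⁻¹ * b * t = a⁻¹ * (b * t * b⁻¹) * b := by group
          _ = t * (a⁻¹ * b) := by rw [← h']; group
      · rintro ⟨x, hx⟩
        obtain ⟨g, hg⟩ := isConj_iff.1 hx
        exact ⟨QuotientGroup.mk g, Subtype.ext hg⟩
    rw [← Nat.card_eq_of_bijective f hf, ← Subgroup.index_eq_card]
    exact fun h => F.S.not_dvd_index (h.trans (index_dvd_of_le fun s hs => mem_centralizer_singleton_iff.2 (F.htc s hs)))
  have hpar := fixed_parity (F.S : Subgroup G) F.S.2 (fun x => IsConj t x) (fun r hr x hx => conj_t (F.htc r hr) hx)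
  -- the fixed points of `S` on the derived part
  let InV : G → Prop := fun x => x ∈ F.A ∧ F.InE x
  have hVinv : ∀ s ∈ (F.S : Subgroup G), ∀ x, InV x → InV (s * x * s⁻¹) := fun s hs x hx =>
    ⟨F.S_norm_A hs hx.1, F.inE_conj (F.htc s hs) hx.2⟩
  have hV4 : Nat.card {x // InV x} = 4 := by
    let f : Fin 4 → {x // InV x} := fun i => ⟨F.φ (![1, uM, vM, uM * vM] i),
      ⟨_, (four_mem i).1, rfl⟩, F.inE_iff.2 (four_mem i).2⟩
    have hf : Function.Bijective f := by
      constructor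
      · intro i j h
        have h' : (![1, uM, vM, uM * vM] : Fin 4 → WM) i = (![1, uM, vM, uM * vM] : Fin 4 → WM) j :=
          F.inj (congrArg Subtype.val h)
        revert h'
        revert i j
        intro i j _ h'
        exact four_injective i j h'
      · rintro ⟨x, hx, hxE⟩
        rcases F.inE_A hx hxE with rfl | rfl | rfl | rfl
        · exact ⟨0, Subtype.ext (map_one F.φ)⟩
        · exact ⟨1, rfl⟩
        · exact ⟨2, rfl⟩
        · exact ⟨3, rfl⟩
    rw [← Nat.card_eq_of_bijective f hf, Nat.card_eq_fintype_card, Fintype.card_fin]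
  have hVpar := fixed_parity (F.S : Subgroup G) F.S.2 InV hVinv
  rw [hV4] at hVpar
  -- the bijection
  obtain ⟨τ, hτA, hτ1, hτfix, hτE⟩ : ∃ τ : WM, inA τ ∧ τ * τ = 1 ∧ (τ = 1 ∨ τ = zM) ∧
      (∀ g : WM, inA g → ((g = zM ∨ (g ≠ 1 ∧ g ≠ zM ∧ g.1 = ε)) ↔
        (τ = zM ∧ (τ * g).1 = 1) ∨ (τ = 1 ∧ (g = zM ∨ (g ≠ 1 ∧ g.1 = 1))))) := by
    exact offset ε
  have hbij : Nat.card {x // IsConj t x ∧ ∀ r ∈ (F.S : Subgroup G), r * x = x * r} =
      Nat.card {x // InV x ∧ ∀ r ∈ (F.S : Subgroup G), r * x = x * r} := by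
    have hfixW : ∀ x, IsConj t x → (∀ r ∈ (F.S : Subgroup G), r * x = x * r) → ∃ g, inA g ∧ F.φ g = x := by
      intro x hx hfix
      obtain ⟨g, rfl⟩ := F.exists_pre (mem_wcl hx (hfix t F.htS).symm)
      refine ⟨g, inA_cent g ?_ ?_, rfl⟩
      · refine F.inj ?_
        rw [map_mul, map_mul]
        exact (hfix _ (F.A_le_S ⟨uM, by show inA uM; simp [inA], rfl⟩)).symm
      · refine F.inj ?_
        rw [map_mul, map_mul]
        exact (hfix _ (F.A_le_S ⟨vM, by show inA vM; simp [inA], rfl⟩)).symm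
    have hτc : ∀ r ∈ (F.S : Subgroup G), r * F.φ τ = F.φ τ * r := by
      intro r hr
      rcases hτfix with rfl | rfl
      · rw [map_one, mul_one, one_mul]
      · rw [F.map_z]; exact F.htc r hr
    refine Nat.card_congr ?_
    refine (Equiv.ofBijective (fun x : {x // IsConj t x ∧ ∀ r ∈ (F.S : Subgroup G), r * x = x * r} =>
      (⟨if τ = 1 ∧ x.1 = t then 1 else F.φ τ * x.1, ?_, ?_⟩ :
        {x // InV x ∧ ∀ r ∈ (F.S : Subgroup G), r * x = x * r})) ⟨?_, ?_⟩)
    · obtain ⟨g, hg, hgx⟩ := hfixW x.1 x.2.1 x.2.2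
      split_ifs with h
      · refine ⟨one_mem _, ?_⟩
        have := (F.inE_iff (g := 1)).2 rfl
        rwa [map_one] at this
      · rw [← hgx, ← map_mul]
        refine ⟨⟨_, inA_closed.1 _ _ hτA hg, rfl⟩, F.inE_iff.2 ?_⟩
        rcases (hτE g hg).1 ((hcls g hg).1 (hgx ▸ x.2.1)) with ⟨-, h2⟩ | ⟨rfl, h2⟩
        · exact h2
        · rcases h2 with rfl | ⟨-, h3⟩
          · exact absurd ⟨rfl, by rw [← hgx, F.map_z]⟩ h
          · rw [one_mul]; exact h3
    · intro r hr
      split_ifs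
      · rw [mul_one, one_mul]
      · rw [← mul_assoc, hτc r hr, mul_assoc, x.2.2 r hr, mul_assoc]
    · intro x y hxy
      have h := congrArg Subtype.val hxy
      simp only at h
      refine Subtype.ext ?_
      split_ifs at h with h1 h2 h2
      · exact h1.2.trans h2.2.symm
      · exfalso
        rw [h1.1, map_one, one_mul] at h
        exact F.t_ne (isConj_one_left.1 (h ▸ y.2.1))
      · exfalso
        rw [h2.1, map_one, one_mul] at h
        exact F.t_ne (isConj_one_left.1 (h.symm ▸ x.2.1))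
      · exact mul_left_cancel h
    · rintro ⟨z, ⟨⟨g, hg, rfl⟩, hzE⟩, hzfix⟩
      have hgfst := F.inE_iff.1 hzE
      by_cases hcase : τ = 1 ∧ g = 1
      · refine ⟨⟨t, IsConj.refl t, fun r hr => F.htc r hr⟩, Subtype.ext ?_⟩
        show (if τ = 1 ∧ t = t then (1 : G) else _) = F.φ g
        rw [if_pos ⟨hcase.1, rfl⟩]
        exact ((congrArg F.φ hcase.2).trans (map_one F.φ)).symm
      · have hττ : τ * (τ * g) = g := by rw [← mul_assoc, hτ1, one_mul]
        have hin : inA (τ * g) := inA_closed.1 _ _ hτA hg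
        have hc : IsConj t (F.φ (τ * g)) := by
          refine (hcls _ hin).2 ((hτE _ hin).2 ?_)
          rcases hτfix with hτ | hτ
          · refine Or.inr ⟨hτ, Or.inr ⟨?_, ?_⟩⟩
            · rw [hτ, one_mul]; exact fun h => hcase ⟨hτ, h⟩
            · rw [hτ, one_mul]; exact hgfst
          · exact Or.inl ⟨hτ, by rw [hττ]; exact hgfst⟩
        refine ⟨⟨F.φ (τ * g), hc, fun r hr => ?_⟩, Subtype.ext ?_⟩
        · rw [map_mul, ← mul_assoc, hτc r hr, mul_assoc, hzfix r hr, mul_assoc]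
        · show (if τ = 1 ∧ F.φ (τ * g) = t then (1 : G) else _) = _
          rw [if_neg ?_, ← map_mul, hττ]
          rintro ⟨h1, h2⟩
          rw [h1, one_mul] at h2
          refine F.t_not_inE ?_
          rwa [h2] at hzE
  rw [hbij] at hpar
  exact hodd (Nat.modEq_zero_iff_dvd.1 (hpar.trans (hVpar.symm.trans (by decide))))
where
  three_orbit : ∀ g : WM, inA g → g ≠ 1 → g ≠ zM → ∀ h : WM, inA h → h ≠ 1 → h ≠ zM → h.1 = g.1 →
      h = g ∨ h = yM * g * yM⁻¹ ∨ h = yM * (yM * g * yM⁻¹) * yM⁻¹ := by decide +kernel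
  two_values : ∀ a b c : Multiplicative (ZMod 2), a ≠ b → c ≠ b → c = a := by decide +kernel
  four_mem : ∀ i : Fin 4, inA ((![1, uM, vM, uM * vM] : Fin 4 → WM) i) ∧
      ((![1, uM, vM, uM * vM] : Fin 4 → WM) i).1 = 1 := by decide +kernel
  four_injective : ∀ i j : Fin 4, (![1, uM, vM, uM * vM] : Fin 4 → WM) i = (![1, uM, vM, uM * vM] : Fin 4 → WM) j →
      i = j := by decide +kernel
  offset : ∀ ε : Multiplicative (ZMod 2), ∃ τ : WM, inA τ ∧ τ * τ = 1 ∧ (τ = 1 ∨ τ = zM) ∧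
      (∀ g : WM, inA g → ((g = zM ∨ (g ≠ 1 ∧ g ≠ zM ∧ g.1 = ε)) ↔
        (τ = zM ∧ (τ * g).1 = 1) ∨ (τ = 1 ∧ (g = zM ∨ (g ≠ 1 ∧ g.1 = 1))))) := by decide +kernel

/-- `S` centralises `A`. -/
theorem S_cent {s a : G} (hs : s ∈ (F.S : Subgroup G)) (ha : a ∈ F.A) : s * a = a * s := by
  classical
  by_contra hne
  obtain ⟨k, hk⟩ := F.S.2 ⟨s, hs⟩
  let Cc : ℕ → Prop := fun n => ∀ b ∈ F.A, s ^ (2 ^ n) * b * (s ^ (2 ^ n))⁻¹ = b
  have hex : ∃ n, Cc n := ⟨k, fun b _ => by
    have : s ^ (2 ^ k) = 1 := congrArg Subtype.val hk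
    rw [this]; group⟩
  have hn0 : Nat.find hex ≠ 0 := fun h => hne (by
    have := Nat.find_spec hex a ha
    rw [h, pow_zero, pow_one] at this
    exact mul_inv_eq_iff_eq_mul.1 this)
  obtain ⟨m, hm⟩ : ∃ m, Nat.find hex = m + 1 := ⟨Nat.find hex - 1, by omega⟩
  have hnot : ¬ Cc m := Nat.find_min hex (by omega)
  simp only [Cc] at hnot
  push Not at hnot
  obtain ⟨b, hb, hbne⟩ := hnot
  set r := s ^ (2 ^ m) with hr
  have hrS : r ∈ (F.S : Subgroup G) := pow_mem hs _
  have hr2 : r * (r * b * r⁻¹) * r⁻¹ = b := by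
    have h := Nat.find_spec hex b hb
    rw [hm, pow_succ, pow_mul, ← hr, pow_two] at h
    calc r * (r * b * r⁻¹) * r⁻¹ = r * r * b * (r * r)⁻¹ := by group
      _ = b := h
  set u := r * b * r⁻¹ * b⁻¹ with hu
  have huA : u ∈ F.A := mul_mem (F.S_norm_A hrS hb) (inv_mem hb)
  have hu1 : u ≠ 1 := fun h => hbne (mul_inv_eq_one.1 h)
  have huE : F.InE u := F.comm_inE (F.htc r hrS) hb
  have hru : r * u = u * r := by
    refine mul_inv_eq_iff_eq_mul.1 ?_
    have hrb := F.S_norm_A hrS hb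
    calc r * u * r⁻¹ = r * (r * b * r⁻¹) * r⁻¹ * (r * b * r⁻¹)⁻¹ := by rw [hu]; group
      _ = b * (r * b * r⁻¹) := by rw [hr2, inv_eq_of_mul_eq_one_left (F.sq_A hrb)]
      _ = u := by rw [hu, inv_eq_of_mul_eq_one_left (F.sq_A hb), F.comm_A hb hrb]
  -- move `u` to `t`
  obtain ⟨h, hh⟩ := isConj_iff.1 (F.all_class huA hu1)
  have hA' : ∀ x ∈ F.A, h⁻¹ * x * h ∈ wcl t := by
    intro x hx
    by_cases hx1 : x = 1
    · rw [hx1, mul_one, inv_mul_cancel]; exact one_mem _
    refine mem_wcl ((F.all_class hx hx1).trans (isConj_iff.2 ⟨h⁻¹, by rw [inv_inv]⟩)) ?_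
    have := congrArg (fun z => h⁻¹ * z * h) (F.comm_A hx huA)
    simpa [← hh, mul_assoc] using this
  obtain ⟨c, hc, hciff⟩ := F.sylow_wcl (B := F.A.map (MulAut.conj h⁻¹).toMonoidHom)
    (by rintro _ ⟨x, hx, rfl⟩; simpa using hA' x hx)
    (by rw [card_map_of_injective (MulAut.conj h⁻¹).injective, F.card_A])
  have hg : ∀ x ∈ F.A, (c * h⁻¹) * x * (c * h⁻¹)⁻¹ ∈ F.A := fun x hx => by
    have := (hciff (h⁻¹ * x * h)).1 ⟨x, hx, by simp⟩
    rwa [show c * h⁻¹ * x * (c * h⁻¹)⁻¹ = c * (h⁻¹ * x * h) * c⁻¹ by group]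
  set g := c * h⁻¹ with hgdef
  have hgu : g * u * g⁻¹ = t := by
    rw [hgdef, ← hh, show c * h⁻¹ * (h * t * h⁻¹) * (c * h⁻¹)⁻¹ = c * t * c⁻¹ by group,
      mem_centralizer_singleton_iff.1 (wcl_le_centralizer t hc), mul_inv_cancel_right]
  have hs' : g * r * g⁻¹ * t = t * (g * r * g⁻¹) := by
    rw [← hgu]
    calc g * r * g⁻¹ * (g * u * g⁻¹) = g * (r * u) * g⁻¹ := by group
      _ = g * u * g⁻¹ * (g * r * g⁻¹) := by rw [hru]; group
  refine F.t_not_inE ?_
  have := F.comm_inE hs' (hg b hb)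
  rwa [show g * r * g⁻¹ * (g * b * g⁻¹) * (g * r * g⁻¹)⁻¹ * (g * b * g⁻¹)⁻¹ = g * (r * b * r⁻¹ * b⁻¹) * g⁻¹ by group,
    ← hu, hgu] at this

end Frame

end Cfsg.Lib.WeakJOne
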