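import Cfsg.Agent.WeakClosureJOne.Local

/-!
The subgroup generated by the weak closures at the involutions of `A`, and its centraliser.
-/

set_option autoImplicit false
set_option linter.unusedSectionVars false

namespace Cfsg.Lib.WeakJOne

open Subgroup

universe u

variable {G : Type u} [Group G] [Finite G]

namespace Frame

variable {t : G} (F : Frame G t)

/-- The nonidentity elements of `A`. -/
abbrev Pts : Type u := {a : G // a ∈ F.A ∧ a ≠ 1}

/-- The subgroup generated by the weak closures at the involutions of `A`. -/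
def X : Subgroup G := ⨆ a : F.Pts, wcl a.1

theorem le_X {a : G} (ha : a ∈ F.A) (ha1 : a ≠ 1) : wcl a ≤ F.X :=
  le_iSup (fun a : F.Pts => wcl a.1) ⟨a, ha, ha1⟩

theorem wcl_le_X : wcl t ≤ F.X := F.le_X F.t_mem F.t_ne

/-- The frame at another involution of `A`. -/
theorem exists_frame {a : G} (ha : a ∈ F.A) (ha1 : a ≠ 1) :
    ∃ F' : Frame G a, F'.A = F.A := by
  obtain ⟨g, hg, hA⟩ := F.trans ha ha1
  let F' : Frame G a :=
    { S := g • F.S
      φ := (MulAut.conj g).toMonoidHom.comp F.φ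
      htS := by rw [Sylow.coe_subgroup_smul]; exact ⟨t, F.htS, hg⟩
      htc := by
        rw [Sylow.coe_subgroup_smul]
        rintro _ ⟨s, hs, rfl⟩
        show g * s * g⁻¹ * a = a * (g * s * g⁻¹)
        rw [← hg, show g * s * g⁻¹ * (g * t * g⁻¹) = g * (s * t) * g⁻¹ by group, F.htc s hs]
        group
      inj := (MulAut.conj g).injective.comp F.inj
      range_eq := by rw [MonoidHom.range_comp, F.range_eq, conj_wcl, hg]
      map_z := by show g * F.φ zM * g⁻¹ = a; rw [F.map_z, hg]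
      map_A := by
        rw [← map_map, Sylow.coe_subgroup_smul]
        exact map_mono F.map_A }
  refine ⟨F', ?_⟩
  show AM.map ((MulAut.conj g).toMonoidHom.comp F.φ) = F.A
  rw [← map_map]
  refine eq_of_le_of_card_ge ?_ (by rw [card_map_of_injective (MulAut.conj g).injective]; exact le_rfl)
  rintro _ ⟨x, hx, rfl⟩
  exact (hA x).1 hx

theorem y_fix {x : G} (hx : x ∈ F.A) (hc : F.y * x = x * F.y) : x = 1 ∨ x = t := by
  obtain ⟨g, hg, rfl⟩ := hx
  have h : yM * g = g * yM := F.inj (by rw [map_mul, map_mul]; exact hc)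
  rcases y_fix_model g hg h with rfl | rfl
  · exact Or.inl (map_one _)
  · exact Or.inr F.map_z
where
  y_fix_model : ∀ g : WM, inA g → yM * g = g * yM → g = 1 ∨ g = zM := by decide +kernel

/-- The elements of `X` normalising `A` and trivial on `C(A)/A`. -/
def Good : Submonoid G where
  carrier := {g | g ∈ F.X ∧ (∀ a ∈ F.A, g * a * g⁻¹ ∈ F.A) ∧
    ∀ h : G, (∀ a ∈ F.A, h * a = a * h) → g * h * g⁻¹ * h⁻¹ ∈ F.A}
  one_mem' := ⟨one_mem _, fun a ha => by simpa using ha, fun h _ => by simp [one_mem]⟩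
  mul_mem' := by
    rintro g₁ g₂ ⟨hX, hA, hC⟩ ⟨hX', hA', hC'⟩
    refine ⟨mul_mem hX hX', fun a ha => ?_, fun h hh => ?_⟩
    · rw [show g₁ * g₂ * a * (g₁ * g₂)⁻¹ = g₁ * (g₂ * a * g₂⁻¹) * g₁⁻¹ by group]
      exact hA _ (hA' a ha)
    · rw [show g₁ * g₂ * h * (g₁ * g₂)⁻¹ * h⁻¹ =
        g₁ * (g₂ * h * g₂⁻¹ * h⁻¹) * g₁⁻¹ * (g₁ * h * g₁⁻¹ * h⁻¹) by group]
      exact mul_mem (hA _ (hC' h hh)) (hC h hh)

/-- The same as a subgroup. -/
def Gam : Subgroup G :=
  { F.Good with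
    inv_mem' := fun {g} hg => by
      have h : g⁻¹ = g ^ (orderOf g - 1) := by
        refine inv_eq_of_mul_eq_one_left ?_
        rw [← pow_succ, Nat.sub_add_cancel (orderOf_pos g), pow_orderOf_eq_one]
      rw [h]
      exact pow_mem (show g ∈ F.Good from hg) _ }

theorem mem_Gam {g : G} : g ∈ F.Gam ↔ g ∈ F.X ∧ (∀ a ∈ F.A, g * a * g⁻¹ ∈ F.A) ∧
    ∀ h : G, (∀ a ∈ F.A, h * a = a * h) → g * h * g⁻¹ * h⁻¹ ∈ F.A := Iff.rfl

theorem y_Gam : F.y ∈ F.Gam := by
  refine F.mem_Gam.2 ⟨F.wcl_le_X (F.mem_range yM), fun a ha => F.y_A ha, fun h hh => ?_⟩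
  obtain ⟨a, ha, hah⟩ := F.decomp_A hh
  have hc : F.y * (a * h) = a * h * F.y := mem_centralizer_iff.1 hah _ (F.mem_range yM)
  have e : F.y * h * F.y⁻¹ * h⁻¹ = F.y * a⁻¹ * F.y⁻¹ * a := by
    calc F.y * h * F.y⁻¹ * h⁻¹ = F.y * a⁻¹ * (a * h) * F.y⁻¹ * h⁻¹ := by group
      _ = F.y * a⁻¹ * (F.y⁻¹ * (F.y * (a * h))) * F.y⁻¹ * h⁻¹ := by group
      _ = _ := by rw [hc]; group
  rw [e]
  exact mul_mem (F.y_A (inv_mem ha)) ha

theorem exists_y {b : G} (hb : b ∈ F.A) (hb1 : b ≠ 1) :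
    ∃ g ∈ F.Gam, g * b = b * g ∧ g ∈ wcl b ∧ ∀ x ∈ F.A, g * x = x * g → x = 1 ∨ x = b := by
  obtain ⟨F', hA⟩ := F.exists_frame hb hb1
  refine ⟨F'.y, F.mem_Gam.2 ⟨F.le_X hb hb1 (F'.mem_range yM), fun a ha => ?_, fun h hh => ?_⟩, F'.y_t,
    F'.mem_range yM, fun x hx hc => F'.y_fix (hA ▸ hx) hc⟩
  · rw [← hA] at ha ⊢
    exact F'.y_A ha
  · have := (F'.mem_Gam.1 F'.y_Gam).2.2 h (hA ▸ hh)
    rwa [hA] at this

/-- The action on the points. -/
def perm : F.Gam →* Equiv.Perm F.Pts :=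
  MonoidHom.mk'
    (fun g =>
      { toFun := fun a => ⟨(g : G) * a.1 * (g : G)⁻¹, (F.mem_Gam.1 g.2).2.1 _ a.2.1,
          fun h => a.2.2 (by
            calc a.1 = (g : G)⁻¹ * ((g : G) * a.1 * (g : G)⁻¹) * g := by group
              _ = 1 := by rw [h]; group)⟩
        invFun := fun a => ⟨((g⁻¹ : F.Gam) : G) * a.1 * ((g⁻¹ : F.Gam) : G)⁻¹,
          (F.mem_Gam.1 (g⁻¹ : F.Gam).2).2.1 _ a.2.1, fun h => a.2.2 (by
            calc a.1 = (g : G) * (((g⁻¹ : F.Gam) : G) * a.1 * ((g⁻¹ : F.Gam) : G)⁻¹) * (g : G)⁻¹ := by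
                  push_cast; group
              _ = 1 := by rw [h]; group)⟩
        left_inv := fun a => Subtype.ext (by push_cast; group)
        right_inv := fun a => Subtype.ext (by push_cast; group) })
    (fun g h => Equiv.ext fun a => Subtype.ext (by
      show ((g * h : F.Gam) : G) * a.1 * ((g * h : F.Gam) : G)⁻¹ = (g : G) * ((h : G) * a.1 * (h : G)⁻¹) * (g : G)⁻¹
      push_cast; group))

theorem perm_apply (g : F.Gam) (a : F.Pts) : ((F.perm g) a).1 = (g : G) * a.1 * (g : G)⁻¹ := rfl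

theorem card_Pts : Nat.card F.Pts = 7 := by
  classical
  haveI : Fintype F.A := Fintype.ofFinite _
  let e : F.Pts ≃ {x : F.A // x ≠ 1} :=
    ⟨fun x => ⟨⟨x.1, x.2.1⟩, fun h => x.2.2 (congrArg Subtype.val h)⟩,
      fun x => ⟨x.1.1, x.1.2, fun h => x.2 (Subtype.ext h)⟩, fun _ => rfl, fun _ => rfl⟩
  rw [Nat.card_congr e, Nat.card_eq_fintype_card, Fintype.card_subtype_compl, Fintype.card_subtype_eq,
    ← Nat.card_eq_fintype_card, F.card_A]

theorem orbit_large (a : F.Pts) :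
    4 ≤ Nat.card {c : F.Pts // ∃ g : F.Gam, F.perm g a = c} := by
  classical
  haveI : Fintype F.A := Fintype.ofFinite _
  obtain ⟨b, hb⟩ : ∃ b : F.Pts, b ≠ a := by
    by_contra h
    push Not at h
    have := Finite.card_le_one_iff_subsingleton.2 (show Subsingleton F.Pts from ⟨fun x y => (h x).trans (h y).symm⟩)
    rw [F.card_Pts] at this
    omega
  obtain ⟨gb, hgb, -, -, hfixb⟩ := F.exists_y b.2.1 b.2.2
  obtain ⟨ga, hga, hgac, hgaw, hfixa⟩ := F.exists_y a.2.1 a.2.2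
  set z := F.perm ⟨gb, hgb⟩ a with hz
  set σ := F.perm ⟨ga, hga⟩ with hσ
  have hza : z ≠ a := fun h => hb (Subtype.ext (by
    rcases hfixb a.1 a.2.1 (mul_inv_eq_iff_eq_mul.1 (congrArg Subtype.val h)) with e | e
    · exact absurd e a.2.2
    · exact e.symm))
  have hσa : σ a = a := Subtype.ext (by rw [hσ, F.perm_apply, show ((⟨ga, hga⟩ : F.Gam) : G) = ga from rfl, hgac,
    mul_inv_cancel_right])
  have hmove : ∀ c : F.Pts, c ≠ a → σ c ≠ c := fun c hc h => hc (Subtype.ext (by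
    rcases hfixa c.1 c.2.1 (mul_inv_eq_iff_eq_mul.1 (congrArg Subtype.val h)) with e | e
    · exact absurd e c.2.2
    · exact e))
  have hne1 : σ z ≠ z := hmove z hza
  have hσz : σ z ≠ a := fun h => hza (σ.injective (h.trans hσa.symm))
  have hne2 : σ (σ z) ≠ σ z := hmove _ hσz
  have hσσz : σ (σ z) ≠ a := fun h => hσz (σ.injective (h.trans hσa.symm))
  have hne3 : σ (σ z) ≠ z := by
    intro h
    -- then the square of an element of order three fixes `z`
    obtain ⟨F', hA⟩ := F.exists_frame a.2.1 a.2.2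
    have h2 : (ga * ga) * z.1 = z.1 * (ga * ga) := mul_inv_eq_iff_eq_mul.1 (by
      have := congrArg Subtype.val h
      rw [F.perm_apply, F.perm_apply] at this
      calc ga * ga * z.1 * (ga * ga)⁻¹ = ga * (ga * z.1 * ga⁻¹) * ga⁻¹ := by group
        _ = z.1 := this)
    apply hne1
    refine Subtype.ext ?_
    rw [hσ, F.perm_apply]
    -- `ga` has odd order modulo the centraliser of `A`
    by_contra hne
    obtain ⟨n, m, hm, hnm⟩ := Nat.exists_eq_two_pow_mul_odd (n := orderOf ga) (orderOf_pos ga).ne'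
    obtain ⟨j, rfl⟩ := hm
    have hq : ∀ x ∈ F.A, ga ^ (2 * j + 1) * x * (ga ^ (2 * j + 1))⁻¹ ∈ F.A :=
      (F.mem_Gam.1 (pow_mem hga _)).2.1
    have hc := F.two_cent hq (n := n) (by rw [← pow_mul, mul_comm, ← hnm, pow_orderOf_eq_one]) z.2.1
    have c2 : Commute ((ga * ga) ^ j) z.1 := (show Commute (ga * ga) z.1 from h2).pow_left j
    have := (c2.inv_left).mul_left (show Commute (ga ^ (2 * j + 1)) z.1 from hc)
    rw [pow_succ ga (2 * j), pow_mul, pow_two, inv_mul_cancel_left] at this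
    exact hne (by
      show ga * z.1 * ga⁻¹ = z.1
      rw [this.eq, mul_inv_cancel_right])
  let f : Fin 4 → {c : F.Pts // ∃ g : F.Gam, F.perm g a = c} :=
    ![⟨a, 1, by rw [map_one]; rfl⟩, ⟨z, _, rfl⟩,
      ⟨σ z, ⟨ga, hga⟩ * ⟨gb, hgb⟩, by rw [map_mul]; rfl⟩,
      ⟨σ (σ z), ⟨ga, hga⟩ * (⟨ga, hga⟩ * ⟨gb, hgb⟩), by rw [map_mul, map_mul]; rfl⟩]
  have hf : Function.Injective f := by
    intro i j h
    have h' := congrArg Subtype.val h
    fin_cases i <;> fin_cases j <;> first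
      | rfl
      | exact absurd h' hza | exact absurd h' hza.symm | exact absurd h' hσz | exact absurd h' hσz.symm
      | exact absurd h' hσσz | exact absurd h' hσσz.symm | exact absurd h' hne1 | exact absurd h' hne1.symm
      | exact absurd h' hne2 | exact absurd h' hne2.symm | exact absurd h' hne3 | exact absurd h' hne3.symm
  have := Nat.card_le_card_of_injective f hf
  rwa [Nat.card_eq_fintype_card, Fintype.card_fin] at this

theorem transitive (a b : F.Pts) : ∃ g : F.Gam, F.perm g a = b := by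
  classical
  by_contra hcon
  push Not at hcon
  have h1 := F.orbit_large a
  have h2 := F.orbit_large b
  let f : {c : F.Pts // ∃ g : F.Gam, F.perm g a = c} ⊕ {c : F.Pts // ∃ g : F.Gam, F.perm g b = c} → F.Pts :=
    Sum.elim Subtype.val Subtype.val
  have hf : Function.Injective f := by
    have key : ∀ (x : {c : F.Pts // ∃ g : F.Gam, F.perm g a = c}) (y : {c : F.Pts // ∃ g : F.Gam, F.perm g b = c}),
        x.1 ≠ y.1 := by
      rintro ⟨x, g, rfl⟩ ⟨y, h, rfl⟩ e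
      refine hcon (h⁻¹ * g) ?_
      rw [map_mul, Equiv.Perm.mul_apply, show F.perm g a = F.perm h b from e, map_inv]
      exact Equiv.symm_apply_apply _ _
    rintro (x | x) (y | y) h
    · exact congrArg Sum.inl (Subtype.ext h)
    · exact absurd h (key x y)
    · exact absurd (Eq.symm h) (key y x)
    · exact congrArg Sum.inr (Subtype.ext h)
  have := Nat.card_le_card_of_injective f hf
  rw [Nat.card_sum, F.card_Pts] at this
  omega

/-- An element permuting the points cyclically. -/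
theorem exists_w : ∃ w : F.Gam, orderOf (F.perm w) = 7 ∧ (∀ x ∈ F.A, (w : G) * x = x * w → x = 1) ∧
    (∀ a ∈ F.A, a ≠ 1 → ∃ n : ℕ, (w : G) ^ n * t * ((w : G) ^ n)⁻¹ = a) ∧
    ∀ g : F.Gam, F.perm (g * w * g⁻¹) ∈ zpowers (F.perm w) := by
  classical
  haveI : Fintype F.Pts := Fintype.ofFinite _
  haveI : Fact (Nat.Prime 7) := ⟨by norm_num⟩
  set H := F.perm.range with hH
  let t₀ : F.Pts := ⟨t, F.t_mem, F.t_ne⟩
  set St := MulAction.stabilizer H t₀ with hSt
  have h7 : Nat.card H = Nat.card St * 7 := by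
    have horb : MulAction.orbit H t₀ = Set.univ := by
      refine Set.eq_univ_of_forall fun b => ?_
      obtain ⟨g, hg⟩ := F.transitive t₀ b
      exact ⟨⟨F.perm g, g, rfl⟩, hg⟩
    rw [← card_mul_index St, hSt, MulAction.index_stabilizer, horb, Set.ncard_univ, F.card_Pts]
  have h3 : Nat.card St ≤ 3 := by
    let f : Fin 3 → H := fun i => ⟨F.perm (⟨F.y, F.y_Gam⟩ ^ (i : ℕ))⁻¹, _, rfl⟩
    have hsub : ∀ s : St, ∃ i, f i = s.1 := by
      rintro ⟨⟨p, g, rfl⟩, hs⟩
      have hgt : (g : G) * t = t * g := mul_inv_eq_iff_eq_mul.1 (congrArg Subtype.val hs)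
      obtain ⟨i, hi⟩ := F.adjust hgt (F.mem_Gam.1 g.2).2.1
      refine ⟨i, Subtype.ext ?_⟩
      show F.perm (⟨F.y, F.y_Gam⟩ ^ (i : ℕ))⁻¹ = F.perm g
      rw [map_inv, inv_eq_iff_mul_eq_one, ← map_mul]
      refine Equiv.ext fun a => Subtype.ext ?_
      rw [F.perm_apply, Subgroup.coe_mul, SubmonoidClass.coe_pow]
      show F.y ^ (i : ℕ) * (g : G) * a.1 * (F.y ^ (i : ℕ) * (g : G))⁻¹ = a.1
      rw [hi a.1 a.2.1, mul_inv_cancel_right]
    let r : St → Fin 3 := fun s => (hsub s).choose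
    have hr : Function.Injective r := fun a b h => by
      apply Subtype.ext
      rw [← (hsub a).choose_spec, ← (hsub b).choose_spec]
      exact congrArg f h
    have := Nat.card_le_card_of_injective r hr
    rwa [Nat.card_eq_fintype_card (α := Fin 3), Fintype.card_fin] at this
  obtain ⟨⟨p, w, rfl⟩, hp⟩ := exists_prime_orderOf_dvd_card' 7 (h7 ▸ dvd_mul_left 7 _ : 7 ∣ Nat.card H)
  rw [← Subgroup.orderOf_coe] at hp
  simp only at hp
  have hcyc : (F.perm w).IsCycle := Equiv.Perm.isCycle_of_prime_order' (by rw [hp]; norm_num) (by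
    rw [hp, ← Nat.card_eq_fintype_card, F.card_Pts]; norm_num)
  have hsupp : (F.perm w).support = Finset.univ := by
    refine Finset.eq_univ_of_card _ ?_
    rw [← hcyc.orderOf, hp, ← Nat.card_eq_fintype_card, F.card_Pts]
  have hmove : ∀ a : F.Pts, F.perm w a ≠ a := fun a => Equiv.Perm.mem_support.1 (hsupp ▸ Finset.mem_univ a)
  refine ⟨w, hp, fun x hx hc => ?_, fun a ha ha1 => ?_, fun g => ?_⟩
  · by_contra hx1
    exact hmove ⟨x, hx, hx1⟩ (Subtype.ext (by rw [F.perm_apply, hc, mul_inv_cancel_right]))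
  · obtain ⟨n, hn⟩ := (hcyc.sameCycle (hmove t₀) (hmove ⟨a, ha, ha1⟩)).exists_nat_pow_eq
    refine ⟨n, ?_⟩
    rw [← map_pow] at hn
    have := congrArg Subtype.val hn
    rwa [F.perm_apply, SubmonoidClass.coe_pow] at this
  · by_contra hne
    set u := F.perm (g * w * g⁻¹) with hu
    have huo : orderOf u = 7 := by
      rw [← hp, hu, map_mul, map_mul, map_inv]
      exact orderOf_injective (MulAut.conj (F.perm g)).toMonoidHom (MulAut.conj (F.perm g)).injective _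
    have hdisj : Disjoint (zpowers u) (zpowers (F.perm w)) := by
      have hd : Nat.card (zpowers u ⊓ zpowers (F.perm w) : Subgroup _) ∣ 7 := by
        have := card_dvd_of_le (inf_le_left : zpowers u ⊓ zpowers (F.perm w) ≤ zpowers u)
        rwa [Nat.card_zpowers, huo] at this
      rcases (Nat.dvd_prime (by norm_num)).1 hd with h | h
      · exact disjoint_iff.2 (Subgroup.card_eq_one.1 h)
      · exfalso
        have : zpowers u ⊓ zpowers (F.perm w) = zpowers u :=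
          eq_of_le_of_card_ge inf_le_left (by rw [h, Nat.card_zpowers, huo])
        exact hne ((inf_eq_left.1 this) (mem_zpowers u))
    let f : zpowers u × zpowers (F.perm w) → H := fun q => ⟨(q.1 : Equiv.Perm F.Pts) * q.2,
      mul_mem (zpowers_le.2 (⟨_, rfl⟩ : u ∈ F.perm.range) q.1.2)
        (zpowers_le.2 (⟨_, rfl⟩ : F.perm w ∈ F.perm.range) q.2.2)⟩
    have hf : Function.Injective f := fun a b h => mul_injective_of_disjoint hdisj (congrArg Subtype.val h :)
    have := Nat.card_le_card_of_injective f hf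
    rw [Nat.card_prod, Nat.card_zpowers, Nat.card_zpowers, huo, hp, h7] at this
    omega

/-- Commutators of `C(A)` centralise every weak closure. -/
theorem comm_cent {c k : G} (hc : ∀ a ∈ F.A, c * a = a * c) (hk : ∀ a ∈ F.A, k * a = a * k) {a : G}
    (ha : a ∈ F.A) (ha1 : a ≠ 1) : c * k * c⁻¹ * k⁻¹ ∈ centralizer ((wcl a : Subgroup G) : Set G) := by
  obtain ⟨F', hA⟩ := F.exists_frame ha ha1
  obtain ⟨α, hα, hl⟩ := F'.decomp_A (h := c) (hA ▸ hc)
  obtain ⟨β, hβ, hm⟩ := F'.decomp_A (h := k) (hA ▸ hk)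
  rw [hA] at hα hβ
  have e : c * k * c⁻¹ * k⁻¹ = (α * c) * (β * k) * (α * c)⁻¹ * (β * k)⁻¹ := by
    have cαc : Commute α c := (hc α hα).symm
    have cαk : Commute α k := (hk α hα).symm
    have cβc : Commute β c := (hc β hβ).symm
    have cβk : Commute β k := (hk β hβ).symm
    have cαβ : Commute α β := F.comm_A hα hβ
    calc c * k * c⁻¹ * k⁻¹ = c * (β * k) * c⁻¹ * (β * k)⁻¹ := by
          rw [show c * (β * k) * c⁻¹ * (β * k)⁻¹ = (c * β) * k * c⁻¹ * k⁻¹ * β⁻¹ by group, ← cβc.eq,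
            show β * c * k * c⁻¹ * k⁻¹ * β⁻¹ = β * (c * k * c⁻¹ * k⁻¹) * β⁻¹ by group,
            ((cβc.mul_right cβk).mul_right cβc.inv_right |>.mul_right cβk.inv_right).eq, mul_inv_cancel_right]
      _ = α * (c * (β * k) * c⁻¹) * α⁻¹ * (β * k)⁻¹ := by
          rw [((cαc.mul_right (cαβ.mul_right cαk)).mul_right cαc.inv_right).eq, mul_inv_cancel_right]
      _ = _ := by group
  rw [e]
  exact mul_mem (mul_mem (mul_mem hl hm) (inv_mem hl)) (inv_mem hm)

theorem A_inter {x : G} (hx : x ∈ F.A) (hc : ∀ a ∈ F.A, a ≠ 1 → x ∈ centralizer ((wcl a : Subgroup G) : Set G)) :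
    x = 1 := by
  by_contra hx1
  obtain ⟨b, hb, hb1, hbx⟩ : ∃ b ∈ F.A, b ≠ 1 ∧ b ≠ x := by
    by_cases h : x = t
    · refine ⟨F.φ uM, ⟨uM, by show inA uM; simp [inA], rfl⟩, fun e => vM_facts.2.2.2.1 (F.inj (e.trans (map_one _).symm)),
        fun e => ?_⟩
      exact absurd (F.inj (e.trans (h.trans F.map_z.symm))) (by decide +kernel)
    · exact ⟨t, F.t_mem, F.t_ne, Ne.symm h⟩
  obtain ⟨g, -, -, hgw, hfix⟩ := F.exists_y hb hb1
  rcases hfix x hx (mem_centralizer_iff.1 (hc b hb hb1) g hgw) with e | e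
  · exact hx1 e
  · exact hbx e.symm

/-- `C(A) = A C(X)`. -/
theorem kernel {h : G} (hh : ∀ a ∈ F.A, h * a = a * h) :
    ∃ a ∈ F.A, a * h ∈ centralizer ((F.X : Subgroup G) : Set G) := by
  classical
  obtain ⟨⟨w, hwG⟩, hwo, hwfix, hworb, hwn⟩ := F.exists_w
  simp only at hwfix hworb
  have hwA := (F.mem_Gam.1 hwG).2.1
  set δ := w * h * w⁻¹ * h⁻¹ with hδ
  have hδA : δ ∈ F.A := (F.mem_Gam.1 hwG).2.2 h hh
  let ψ : F.A → F.A := fun b => ⟨w * (b : G) * w⁻¹ * b, mul_mem (hwA b b.2) b.2⟩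
  have hψ : Function.Injective ψ := by
    intro b b' e
    have e' : w * (b : G) * w⁻¹ * b = w * (b' : G) * w⁻¹ * b' := congrArg Subtype.val e
    have hfix : w * ((b : G) * b') * w⁻¹ = (b : G) * b' := by
      calc w * ((b : G) * b') * w⁻¹ = (w * (b : G) * w⁻¹ * b) * ((b : G)⁻¹ * (w * (b' : G) * w⁻¹)) := by group
        _ = w * (b' : G) * w⁻¹ * b' * ((b : G)⁻¹ * (w * (b' : G) * w⁻¹)) := by rw [e']
        _ = (b' : G) * (b : G)⁻¹ * (w * (b' : G) * w⁻¹ * (w * (b' : G) * w⁻¹)) := by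
            rw [F.comm_A (hwA _ b'.2) b'.2, mul_assoc (b' : G) (w * (b' : G) * w⁻¹) _, ← mul_assoc (w * (b' : G) * w⁻¹),
              F.comm_A (hwA _ b'.2) (inv_mem b.2)]
            group
        _ = (b : G) * b' := by
            rw [F.sq_A (hwA _ b'.2), mul_one, inv_eq_of_mul_eq_one_left (F.sq_A b.2), F.comm_A b'.2 b.2]
    have := hwfix _ (mul_mem b.2 b'.2) (mul_inv_eq_iff_eq_mul.1 hfix)
    exact Subtype.ext ((eq_inv_of_mul_eq_one_left this).trans (inv_eq_of_mul_eq_one_left (F.sq_A b'.2)))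
  obtain ⟨⟨b, hb⟩, hbe⟩ := (Finite.injective_iff_surjective.1 hψ) ⟨δ, hδA⟩
  have hbe' : w * b * w⁻¹ * b = δ := congrArg Subtype.val hbe
  refine ⟨b, hb, ?_⟩
  set k := b * h with hk
  have hkA : ∀ a ∈ F.A, k * a = a * k := fun a ha => by
    rw [hk, mul_assoc, hh a ha, ← mul_assoc, F.comm_A hb ha, mul_assoc]
  have hwk : Commute w k := by
    refine mul_inv_eq_iff_eq_mul.1 ?_
    calc w * k * w⁻¹ = (w * b * w⁻¹ * b) * b⁻¹ * (w * h * w⁻¹ * h⁻¹) * h := by rw [hk]; group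
      _ = δ * b⁻¹ * δ * h := by rw [hbe', ← hδ]
      _ = k := by
          rw [inv_eq_of_mul_eq_one_left (F.sq_A hb), F.comm_A hδA hb, mul_assoc b δ δ, F.sq_A hδA, mul_one]
  -- `y` fixes `k`
  obtain ⟨n, hn⟩ := Submonoid.mem_powers_iff _ _ |>.1 (mem_powers_iff_mem_zpowers.2 (hwn ⟨F.y, F.y_Gam⟩))
  set c := (w ^ n)⁻¹ * (F.y * w * F.y⁻¹) with hc
  have hcA : ∀ a ∈ F.A, c * a = a * c := by
    intro a ha
    by_cases ha1 : a = 1
    · rw [ha1, mul_one, one_mul]
    have e := congrArg (fun p : Equiv.Perm F.Pts => (p ⟨a, ha, ha1⟩).1) hn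
    rw [← map_pow] at e
    simp only [F.perm_apply, SubmonoidClass.coe_pow, Subgroup.coe_mul, Subgroup.coe_inv] at e
    refine mul_inv_eq_iff_eq_mul.1 ?_
    calc c * a * c⁻¹ = (w ^ n)⁻¹ * (F.y * w * F.y⁻¹ * a * (F.y * w * F.y⁻¹)⁻¹) * w ^ n := by rw [hc]; group
      _ = a := by rw [← e]; group
  have hck : Commute c k := by
    have hGam : c ∈ F.Gam := mul_mem (inv_mem (pow_mem hwG n)) (mul_mem (mul_mem F.y_Gam hwG) (inv_mem F.y_Gam))
    have := F.A_inter ((F.mem_Gam.1 hGam).2.2 k hkA) fun a ha ha1 => F.comm_cent hcA hkA ha ha1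
    exact mul_inv_eq_iff_eq_mul.1 (mul_inv_eq_one.1 this)
  set α := F.y * k * F.y⁻¹ * k⁻¹ with hα
  have hαA : α ∈ F.A := (F.mem_Gam.1 F.y_Gam).2.2 k hkA
  have hwnk : Commute (w ^ n * c) k := (hwk.pow_left n).mul_left hck
  have hαw : Commute (w ^ n * c) α := by
    have h1 : Commute (w ^ n * c) (F.y * k * F.y⁻¹) := by
      rw [show w ^ n * c = F.y * w * F.y⁻¹ by rw [hc, mul_inv_cancel_left]]
      have := hwk.map (MulAut.conj F.y).toMonoidHom
      exact this
    exact h1.mul_right hwnk.inv_right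
  have hαn : Commute (w ^ n) α := by
    have hcα : Commute c α := hcA α hαA
    have := hαw.mul_left hcα.inv_left
    rwa [mul_inv_cancel_right] at this
  have hn7 : ¬ 7 ∣ n := by
    intro hd
    obtain ⟨j, rfl⟩ := hd
    rw [pow_mul, ← hwo, pow_orderOf_eq_one, one_pow] at hn
    have h1 : F.perm ⟨w, hwG⟩ = 1 := by
      have := hn.symm
      rw [map_mul, map_mul, map_inv] at this
      have := mul_eq_left.1 (mul_inv_eq_iff_eq_mul.1 this |>.trans (one_mul _))
      exact this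
    rw [h1, orderOf_one] at hwo
    norm_num at hwo
  have hαw1 : Commute w α := by
    obtain ⟨j, hj⟩ : ∃ j, n * j % 7 = 1 := by
      have hm : n % 7 ≠ 0 := fun h => hn7 (Nat.dvd_of_mod_eq_zero h)
      have key : ∀ r : Fin 7, r.val ≠ 0 → ∃ j : Fin 7, r.val * j.val % 7 = 1 := by decide
      obtain ⟨j, hj⟩ := key ⟨n % 7, Nat.mod_lt _ (by norm_num)⟩ hm
      exact ⟨j.val, by rw [Nat.mul_mod, Nat.mod_eq_of_lt j.2]; exact hj⟩
    by_cases hα1 : α = 1
    · rw [hα1]; exact Commute.one_right _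
    obtain ⟨q, hq⟩ : ∃ q, n * j = 7 * q + 1 := ⟨n * j / 7, by omega⟩
    have h7 : Commute (w ^ 7) α := by
      refine mul_inv_eq_iff_eq_mul.1 ?_
      have e := congrArg (fun p : Equiv.Perm F.Pts => (p ⟨α, hαA, hα1⟩).1)
        (show F.perm (⟨w, hwG⟩ ^ 7) = 1 by rw [map_pow, ← hwo, pow_orderOf_eq_one])
      simpa [F.perm_apply] using e
    have h1 : Commute (w ^ (n * j)) α := by rw [pow_mul]; exact hαn.pow_left j
    rw [hq, pow_succ, pow_mul] at h1
    have := ((h7.pow_left q).inv_left).mul_left h1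
    rwa [inv_mul_cancel_left] at this
  have hα1 : α = 1 := hwfix α hαA hαw1
  have hyk : Commute F.y k := mul_inv_eq_iff_eq_mul.1 (mul_inv_eq_one.1 hα1)
  obtain ⟨β, hβ, hβk⟩ := F.decomp_A hkA
  have hβt : β = 1 ∨ β = t := F.y_fix hβ (by
    have h1 : Commute F.y (β * k) := mem_centralizer_iff.1 hβk _ (F.mem_range yM)
    have := h1.mul_right hyk.inv_right
    rwa [mul_inv_cancel_right] at this)
  have hkt : k ∈ centralizer ((wcl t : Subgroup G) : Set G) := by
    have : β ∈ centralizer ((wcl t : Subgroup G) : Set G) := by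
      rcases hβt with h | h <;> rw [h]
      · exact one_mem _
      · exact mem_centralizer_iff.2 fun z hz => mem_centralizer_singleton_iff.1 (wcl_le_centralizer t hz)
    have := mul_mem (inv_mem this) hβk
    rwa [inv_mul_cancel_left] at this
  have hle : F.X ≤ centralizer ({k} : Set G) := by
    refine iSup_le fun a => ?_
    obtain ⟨m, hm⟩ := hworb a.1 a.2.1 a.2.2
    rw [← hm, ← conj_wcl]
    rintro _ ⟨z, hz, rfl⟩
    have h1 : Commute z k := mem_centralizer_iff.1 hkt z hz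
    have h2 : Commute (w ^ m) k := hwk.pow_left m
    exact mem_centralizer_singleton_iff.2 ((h2.mul_left h1).mul_left h2.inv_left)
  exact mem_centralizer_iff.2 fun z hz => mem_centralizer_singleton_iff.1 (hle hz)

/-- `C(t) = W C(X)`. -/
theorem centralizer_t {g : G} (hgt : g * t = t * g) :
    ∃ w ∈ wcl t, ∃ q ∈ centralizer ((F.X : Subgroup G) : Set G), g = w * q := by
  obtain ⟨w, hw, k, -, hkA, rfl⟩ := F.decomp hgt
  obtain ⟨a, ha, hak⟩ := F.kernel hkA
  exact ⟨w * a⁻¹, mul_mem hw (F.A_le_wcl (inv_mem ha)), a * k, hak, by group⟩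

/-- The weak closure inside such a subgroup. -/
theorem sub_wcl {Y : Subgroup G} (hW : wcl t ≤ Y) (hfus : ∀ a ∈ F.A, a ≠ 1 → ∃ g ∈ Y, g * t * g⁻¹ = a) :
    (wcl (⟨t, hW (F.A_le_wcl F.t_mem)⟩ : Y)).map Y.subtype = wcl t := by
  classical
  haveI : Fact (Nat.Prime 2) := ⟨Nat.prime_two⟩
  have htY : t ∈ Y := hW (F.A_le_wcl F.t_mem)
  refine le_antisymm ?_ ?_
  · rw [wcl, MonoidHom.map_closure, closure_le]
    rintro _ ⟨z, ⟨g, rfl, hc⟩, rfl⟩
    exact mem_wcl (isConj_iff.2 ⟨(g : G), rfl⟩) (congrArg Subtype.val hc)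
  · refine (closure_le _).2 ?_
    rintro x ⟨g, rfl, hc⟩
    have hxW : g * t * g⁻¹ ∈ wcl t := mem_wcl (isConj_iff.2 ⟨g, rfl⟩) hc
    -- move it into `A` inside the weak closure
    have hp : IsPGroup 2 ((zpowers (g * t * g⁻¹) ⊔ zpowers t : Subgroup G)) := by
      refine IsPGroup.to_sup_of_normal_left' (IsPGroup.of_card (n := 1) ?_) (IsPGroup.of_card (n := 1) ?_) ?_
      · rw [Nat.card_zpowers, pow_one]
        exact orderOf_eq_prime (by rw [pow_two, conj_sq g F.t_sq]) (conj_ne g F.t_ne)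
      · rw [Nat.card_zpowers, pow_one]
        exact orderOf_eq_prime (by rw [pow_two, F.t_sq]) F.t_ne
      · rw [zpowers_le]
        refine centralizer_le_normalizer _ (mem_centralizer_iff.2 fun z hz => ?_)
        obtain ⟨i, rfl⟩ := mem_zpowers_iff.1 hz
        exact (show Commute (g * t * g⁻¹) t from hc).zpow_left i
    have hsub : IsPGroup 2 ((zpowers (g * t * g⁻¹)).subgroupOf (wcl t)) :=
      (hp.to_le le_sup_left).comap_of_injective (wcl t).subtype (wcl t).subtype_injective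
    obtain ⟨R, hR⟩ := hsub.exists_le_sylow
    have hR8 : Nat.card ((R : Subgroup (wcl t)).map (wcl t).subtype) = 8 := by
      rw [card_map_of_injective (wcl t).subtype_injective, R.card_eq_multiplicity,
        show Nat.card (wcl t) = 120 by
          rw [← F.range_eq, ← Nat.card_congr (MonoidHom.ofInjective F.inj).toEquiv, Nat.card_prod,
            Nat.card_eq_fintype_card, Nat.card_eq_fintype_card]
          decide +kernel,
        show (120 : ℕ) = 2 ^ 3 * 15 from rfl,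
        Nat.factorization_mul (by norm_num) (by norm_num), Finsupp.add_apply,
        Nat.factorization_eq_zero_of_not_dvd (show ¬ 2 ∣ 15 by norm_num),
        Nat.Prime.factorization_pow Nat.prime_two]
      simp
    obtain ⟨c, hcW, hciff⟩ := F.sylow_wcl (map_subtype_le _) hR8
    have ha : c * (g * t * g⁻¹) * c⁻¹ ∈ F.A :=
      (hciff _).1 ⟨⟨g * t * g⁻¹, hxW⟩, hR (mem_subgroupOf.2 (mem_zpowers _)), rfl⟩
    obtain ⟨d, hd, hde⟩ := hfus _ ha (conj_ne c (conj_ne g F.t_ne))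
    refine ⟨⟨c⁻¹ * d, mul_mem (inv_mem (hW hcW)) hd⟩ * ⟨t, htY⟩ * ⟨c⁻¹ * d, mul_mem (inv_mem (hW hcW)) hd⟩⁻¹,
      mem_wcl (isConj_iff.2 ⟨_, rfl⟩) (Subtype.ext ?_), ?_⟩
    · show c⁻¹ * d * t * (c⁻¹ * d)⁻¹ * t = t * (c⁻¹ * d * t * (c⁻¹ * d)⁻¹)
      rw [show c⁻¹ * d * t * (c⁻¹ * d)⁻¹ = c⁻¹ * (d * t * d⁻¹) * c by group, hde,
        show c⁻¹ * (c * (g * t * g⁻¹) * c⁻¹) * c = g * t * g⁻¹ by group]
      exact hc
    · show c⁻¹ * d * t * (c⁻¹ * d)⁻¹ = g * t * g⁻¹
      rw [show c⁻¹ * d * t * (c⁻¹ * d)⁻¹ = c⁻¹ * (d * t * d⁻¹) * c by group, hde]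
      group

/-- Subgroups containing the weak closure and fusing `A` inherit the hypotheses. -/
theorem sub_hyp {Y : Subgroup G} (hW : wcl t ≤ Y)
    (hfus : ∀ a ∈ F.A, a ≠ 1 → ∃ g ∈ Y, g * t * g⁻¹ = a) :
    Hyp Y ⟨t, hW (F.A_le_wcl F.t_mem)⟩ := by
  classical
  haveI : Fact (Nat.Prime 2) := ⟨Nat.prime_two⟩
  have htY : t ∈ Y := hW (F.A_le_wcl F.t_mem)
  refine ⟨by rw [orderOf_mk]; exact orderOf_eq_prime (by rw [pow_two, F.t_sq]) F.t_ne, ?_, ?_⟩
  · have hAY : F.A ≤ Y := F.A_le_wcl.trans hW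
    have hp : IsPGroup 2 (F.A.subgroupOf Y) := (F.S.2.to_le F.A_le_S).comap_of_injective Y.subtype Y.subtype_injective
    obtain ⟨R, hR⟩ := hp.exists_le_sylow
    have hRp : IsPGroup 2 ((R : Subgroup Y).map Y.subtype) := R.2.map _
    have hAR : F.A ≤ (R : Subgroup Y).map Y.subtype := fun a ha =>
      ⟨⟨a, hAY ha⟩, hR (mem_subgroupOf.2 ha), rfl⟩
    refine ⟨R, ?_, fun s hs => Subtype.ext ?_⟩
    · exact hR (mem_subgroupOf.2 F.t_mem)
    · obtain ⟨h, hmem, hA⟩ := F.into_S hRp hAR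
      have e := F.S_cent (hmem (s : G) ⟨s, hs, rfl⟩) (hA t F.t_mem)
      refine (MulAut.conj h).injective ?_
      simp only [Subgroup.coe_mul]
      rw [map_mul, map_mul]
      exact e
  · have hmap := F.sub_wcl hW hfus
    obtain ⟨e⟩ : Nonempty (wcl t ≃* WM) :=
      ⟨(MulEquiv.subgroupCongr F.range_eq.symm).trans (MonoidHom.ofInjective F.inj).symm⟩
    exact ⟨((wcl (⟨t, htY⟩ : Y)).equivMapOfInjective _ Y.subtype_injective).trans
      ((MulEquiv.subgroupCongr hmap).trans e)⟩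

theorem X_fusion {a : G} (ha : a ∈ F.A) (ha1 : a ≠ 1) : ∃ g ∈ F.X, g * t * g⁻¹ = a := by
  obtain ⟨g, hg⟩ := F.transitive ⟨t, F.t_mem, F.t_ne⟩ ⟨a, ha, ha1⟩
  exact ⟨g, (F.mem_Gam.1 g.2).1, congrArg Subtype.val hg⟩

end Frame

end Cfsg.Lib.WeakJOne
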