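import Cfsg.Agent.WeakClosureJOne.Fusion

/-!
The structure of the centralisers.
-/

set_option autoImplicit false
set_option linter.unusedSectionVars false
set_option synthInstance.maxSize 2000
set_option maxRecDepth 4000

namespace Cfsg.Lib.WeakJOne

open Subgroup

universe u

variable {G : Type u} [Group G] [Finite G]

namespace Frame

variable {t : G} (F : Frame G t)

theorem conj_S_A {g : G} (hg : ∀ a ∈ F.A, g * a * g⁻¹ ∈ (F.S : Subgroup G)) {a : G} (ha : a ∈ F.A) :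
    g * a * g⁻¹ ∈ F.A := by
  by_cases ha1 : a = 1
  · rw [ha1, mul_one, mul_inv_cancel]; exact one_mem _
  exact F.cls_S ((F.all_class ha ha1).trans (isConj_iff.2 ⟨g, rfl⟩)) (hg a ha)

/-- `N(A)` is transitive on the involutions of `A`. -/
theorem trans {a : G} (ha : a ∈ F.A) (ha1 : a ≠ 1) :
    ∃ g : G, g * t * g⁻¹ = a ∧ ∀ x, x ∈ F.A ↔ g * x * g⁻¹ ∈ F.A := by
  obtain ⟨h, hh⟩ := isConj_iff.1 (F.all_class ha ha1)
  have hA' : ∀ x ∈ F.A, h⁻¹ * x * h ∈ wcl t := by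
    intro x hx
    by_cases hx1 : x = 1
    · rw [hx1, mul_one, inv_mul_cancel]; exact one_mem _
    refine mem_wcl ((F.all_class hx hx1).trans (isConj_iff.2 ⟨h⁻¹, by rw [inv_inv]⟩)) ?_
    have := congrArg (fun z => h⁻¹ * z * h) (F.comm_A hx ha)
    simpa [← hh, mul_assoc] using this
  obtain ⟨c, hc, hciff⟩ := F.sylow_wcl (B := F.A.map (MulAut.conj h⁻¹).toMonoidHom)
    (by rintro _ ⟨x, hx, rfl⟩; simpa using hA' x hx)
    (by rw [card_map_of_injective (MulAut.conj h⁻¹).injective, F.card_A])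
  refine ⟨h * c⁻¹, ?_, fun x => ?_⟩
  · rw [← hh, show h * c⁻¹ * t * (h * c⁻¹)⁻¹ = h * (c⁻¹ * t * c) * h⁻¹ by group, mul_assoc c⁻¹,
      ← mem_centralizer_singleton_iff.1 (wcl_le_centralizer t hc), inv_mul_cancel_left]
  · have key := hciff (c⁻¹ * x * c)
    rw [show c * (c⁻¹ * x * c) * c⁻¹ = x by group] at key
    rw [← key, mem_map_equiv, MulAut.conj_symm_apply]
    rw [show (h⁻¹)⁻¹ = h from inv_inv h, show h * (c⁻¹ * x * c) * h⁻¹ = h * c⁻¹ * x * (h * c⁻¹)⁻¹ by group]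

/-- A 2-group containing `A` maps into `S` with `A` fixed. -/
theorem into_S {R : Subgroup G} (hR : IsPGroup 2 R) (hAR : F.A ≤ R) :
    ∃ h : G, (∀ r ∈ R, h * r * h⁻¹ ∈ (F.S : Subgroup G)) ∧ ∀ a ∈ F.A, h * a * h⁻¹ ∈ F.A := by
  haveI : Fact (Nat.Prime 2) := ⟨Nat.prime_two⟩
  obtain ⟨P, hP⟩ := hR.exists_le_sylow
  obtain ⟨h, hh⟩ := MulAction.exists_smul_eq G P F.S
  have hmem : ∀ r ∈ R, h * r * h⁻¹ ∈ (F.S : Subgroup G) := fun r hr => by
    rw [← hh, Sylow.coe_subgroup_smul]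
    exact ⟨r, hP hr, rfl⟩
  exact ⟨h, hmem, fun a ha => F.conj_S_A (fun b hb => hmem b (hAR hb)) ha⟩

theorem cls_twogroup {R : Subgroup G} (hR : IsPGroup 2 R) (hAR : F.A ≤ R) {x : G} (hx : IsConj t x) (hxR : x ∈ R) :
    x ∈ F.A := by
  obtain ⟨h, hmem, hA⟩ := F.into_S hR hAR
  have h1 := F.cls_S (hx.trans (isConj_iff.2 ⟨h, rfl⟩)) (hmem x hxR)
  let f : F.A → F.A := fun a => ⟨h * (a : G) * h⁻¹, hA a a.2⟩
  have hf : Function.Injective f := fun a b e => Subtype.ext ((MulAut.conj h).injective (congrArg Subtype.val e :))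
  obtain ⟨a, ha⟩ := (Finite.injective_iff_surjective.1 hf) ⟨_, h1⟩
  have : (a : G) = x := (MulAut.conj h).injective (congrArg Subtype.val ha :)
  exact this ▸ a.2

/-- A 2-element normalising `A` centralises it. -/
theorem two_cent {g : G} (hg : ∀ a ∈ F.A, g * a * g⁻¹ ∈ F.A) {n : ℕ} (hn : g ^ (2 ^ n) = 1) {a : G}
    (ha : a ∈ F.A) : g * a = a * g := by
  haveI : Fact (Nat.Prime 2) := ⟨Nat.prime_two⟩
  have hgn : g ∈ normalizer (F.A : Set G) := by
    refine mem_normalizer_iff.2 fun x => ⟨hg x, fun hx => ?_⟩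
    let f : F.A → F.A := fun a => ⟨g * (a : G) * g⁻¹, hg a a.2⟩
    have hf : Function.Injective f := fun a b e => Subtype.ext ((MulAut.conj g).injective (congrArg Subtype.val e :))
    obtain ⟨b, hb⟩ := (Finite.injective_iff_surjective.1 hf) ⟨_, hx⟩
    have : (b : G) = x := (MulAut.conj g).injective (congrArg Subtype.val hb :)
    exact this ▸ b.2
  obtain ⟨k, -, hk⟩ := (Nat.dvd_prime_pow Nat.prime_two).1 (orderOf_dvd_of_pow_eq_one hn)
  have hR : IsPGroup 2 (F.A ⊔ zpowers g : Subgroup G) :=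
    IsPGroup.to_sup_of_normal_left' (F.S.2.to_le F.A_le_S) (IsPGroup.of_card (by rw [Nat.card_zpowers, hk]))
      (zpowers_le.2 hgn)
  obtain ⟨h, hmem, hA⟩ := F.into_S hR le_sup_left
  have e := F.S_cent (hmem g (mem_sup_right (mem_zpowers g))) (hA a ha)
  refine (MulAut.conj h).injective ?_
  rw [map_mul, map_mul]
  exact e

/-- The element of order three. -/
def y : G := F.φ yM

theorem y_t : F.y * t = t * F.y := mem_centralizer_singleton_iff.1 (wcl_le_centralizer t (F.mem_range yM))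

theorem y_A {a : G} (ha : a ∈ F.A) : F.y * a * F.y⁻¹ ∈ F.A := by
  obtain ⟨g, hg, rfl⟩ := ha
  exact ⟨yM * g * yM⁻¹, inA_closed.2.2.2.2 g hg, by rw [Frame.y, map_mul, map_mul, map_inv]⟩

/-- `C(t) ∩ N(A)` induces a group of order three on `A`. -/
theorem adjust {g : G} (hgt : g * t = t * g) (hgA : ∀ a ∈ F.A, g * a * g⁻¹ ∈ F.A) :
    ∃ i : Fin 3, ∀ a ∈ F.A, F.y ^ (i : ℕ) * g * a = a * (F.y ^ (i : ℕ) * g) := by
  classical
  set u := F.φ uM with hu
  set v := F.φ vM with hv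
  have huA : u ∈ F.A := ⟨uM, by show inA uM; simp [inA], rfl⟩
  have hvA : v ∈ F.A := ⟨vM, by show inA vM; simp [inA], rfl⟩
  have huE : F.InE u := F.inE_iff.2 vM_facts.2.2.2.2.2.2.1
  have hvE : F.InE v := F.inE_iff.2 vM_facts.2.2.2.2.2.2.2
  have hu1 : u ≠ 1 := fun h => vM_facts.2.2.2.1 (F.inj (h.trans (map_one _).symm))
  have hv1 : v ≠ 1 := fun h => vM_facts.2.2.2.2.1 (F.inj (h.trans (map_one _).symm))
  obtain ⟨i, hi⟩ : ∃ i : Fin 3, F.y ^ (i : ℕ) * g * u * (F.y ^ (i : ℕ) * g)⁻¹ = u := by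
    have key : ∀ x : WM, x = uM ∨ x = vM ∨ x = uM * vM →
        ∃ i : Fin 3, yM ^ (i : ℕ) * x * (yM ^ (i : ℕ))⁻¹ = uM := by decide +kernel
    rcases F.inE_A (hgA u huA) (F.inE_conj hgt huE) with h | h | h | h
    · exact absurd h (conj_ne g hu1)
    · obtain ⟨i, hi⟩ := key _ (Or.inl rfl : uM = uM ∨ _ ∨ _)
      refine ⟨i, ?_⟩
      rw [show F.y ^ (i : ℕ) * g * u * (F.y ^ (i : ℕ) * g)⁻¹ = F.y ^ (i : ℕ) * (g * u * g⁻¹) * (F.y ^ (i : ℕ))⁻¹
        by group, h, Frame.y, ← map_pow, ← map_inv, ← map_mul, ← map_mul, hi]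
    · obtain ⟨i, hi⟩ := key _ (Or.inr (Or.inl rfl) : vM = uM ∨ vM = vM ∨ _)
      refine ⟨i, ?_⟩
      rw [show F.y ^ (i : ℕ) * g * u * (F.y ^ (i : ℕ) * g)⁻¹ = F.y ^ (i : ℕ) * (g * u * g⁻¹) * (F.y ^ (i : ℕ))⁻¹
        by group, h, Frame.y, ← map_pow, ← map_inv, ← map_mul, ← map_mul, hi]
    · obtain ⟨i, hi⟩ := key _ (Or.inr (Or.inr rfl) : uM * vM = uM ∨ uM * vM = vM ∨ uM * vM = uM * vM)
      refine ⟨i, ?_⟩
      rw [show F.y ^ (i : ℕ) * g * u * (F.y ^ (i : ℕ) * g)⁻¹ = F.y ^ (i : ℕ) * (g * u * g⁻¹) * (F.y ^ (i : ℕ))⁻¹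
        by group, h, Frame.y, ← map_pow, ← map_inv, ← map_mul, ← map_mul, hi]
  set h := F.y ^ (i : ℕ) * g with hh
  have hht : h * t = t * h :=
    ((show Commute (F.y) t from F.y_t).pow_left (i : ℕ)).mul_left hgt
  have hhA : ∀ a ∈ F.A, h * a * h⁻¹ ∈ F.A := by
    intro a ha
    rw [hh, show F.y ^ (i : ℕ) * g * a * (F.y ^ (i : ℕ) * g)⁻¹ = F.y ^ (i : ℕ) * (g * a * g⁻¹) * (F.y ^ (i : ℕ))⁻¹
      by group]
    have : ∀ n : ℕ, ∀ b ∈ F.A, F.y ^ n * b * (F.y ^ n)⁻¹ ∈ F.A := by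
      intro n
      induction n with
      | zero => intro b hb; simpa using hb
      | succ n ih =>
        intro b hb
        rw [pow_succ', show F.y * F.y ^ n * b * (F.y * F.y ^ n)⁻¹ = F.y * (F.y ^ n * b * (F.y ^ n)⁻¹) * F.y⁻¹ by group]
        exact F.y_A (ih b hb)
    exact this _ _ (hgA a ha)
  have hgen : h * v = v * h → ∀ a ∈ F.A, h * a = a * h := by
    intro hhv a ha
    obtain ⟨x, hx, rfl⟩ := ha
    have cu : Commute h u := mul_inv_eq_iff_eq_mul.1 hi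
    have cv : Commute h v := hhv
    have ct : Commute h t := hht
    rcases hx with rfl | rfl | rfl | rfl | rfl | rfl | rfl | rfl
    · rw [map_one, mul_one, one_mul]
    · exact cu
    · exact cv
    · rw [map_mul]; exact cu.mul_right cv
    · rw [F.map_z]; exact ct
    · rw [map_mul, F.map_z]; exact ct.mul_right cu
    · rw [map_mul, F.map_z]; exact ct.mul_right cv
    · rw [map_mul, map_mul, F.map_z]; exact ct.mul_right (cu.mul_right cv)
  refine ⟨i, hgen ?_⟩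
  -- no transposition
  refine mul_inv_eq_iff_eq_mul.1 ?_
  rcases F.inE_A (hhA v hvA) (F.inE_conj hht hvE) with e | e | e | e
  · exact absurd e (conj_ne h hv1)
  · exfalso
    have := (MulAut.conj h).injective (e.trans hi.symm : MulAut.conj h v = MulAut.conj h u)
    exact vM_facts.2.2.2.2.2.1 (F.inj this).symm
  · exact e
  · exfalso
    have e' : h * v * h⁻¹ = u * v := by rw [e, map_mul]
    have hsq : h ^ 2 * v = v * h ^ 2 := by
      refine mul_inv_eq_iff_eq_mul.1 ?_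
      calc h ^ 2 * v * (h ^ 2)⁻¹ = h * (h * v * h⁻¹) * h⁻¹ := by rw [pow_two]; group
        _ = h * (u * v) * h⁻¹ := by rw [e']
        _ = h * u * h⁻¹ * (h * v * h⁻¹) := by group
        _ = v := by rw [hi, e', ← mul_assoc, F.sq_A huA, one_mul]
    obtain ⟨n, m, hm, hnm⟩ := Nat.exists_eq_two_pow_mul_odd (n := orderOf h) (orderOf_pos h).ne'
    obtain ⟨j, rfl⟩ := hm
    have hq : ∀ a ∈ F.A, h ^ (2 * j + 1) * a * (h ^ (2 * j + 1))⁻¹ ∈ F.A := by
      intro a ha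
      generalize 2 * j + 1 = k
      induction k generalizing a with
      | zero => simpa using ha
      | succ k ih =>
        rw [pow_succ, show h ^ k * h * a * (h ^ k * h)⁻¹ = h ^ k * (h * a * h⁻¹) * (h ^ k)⁻¹ by group]
        exact ih _ (hhA a ha)
    have hc := F.two_cent hq (n := n) (by rw [← pow_mul, mul_comm, ← hnm, pow_orderOf_eq_one]) hvA
    have hv' : h * v = v * h := by
      have c2 : Commute ((h ^ 2) ^ j) v := (show Commute (h ^ 2) v from hsq).pow_left j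
      have c1 : Commute (h ^ (2 * j + 1)) v := hc
      have := (c2.inv_left).mul_left c1
      rwa [pow_succ h (2 * j), pow_mul, inv_mul_cancel_left] at this
    rw [hv', mul_inv_cancel_right] at e'
    exact hu1 (mul_eq_right.1 e'.symm)

/-- An element centralising `A` acts on the weak closure as an element of `A`. -/
theorem decomp_A {h : G} (hh : ∀ a ∈ F.A, h * a = a * h) :
    ∃ a ∈ F.A, a * h ∈ centralizer ((wcl t : Subgroup G) : Set G) := by
  have hht : h * t = t * h := hh t F.t_mem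
  obtain ⟨g, hg⟩ := F.exists_pre (conj_wcl_self hht (F.mem_range cM))
  have hfix : ∀ x : WM, inA x → h * F.φ x * h⁻¹ = F.φ x := fun x hx => by
    rw [hh _ ⟨x, hx, rfl⟩, mul_inv_cancel_right]
  have hpow : ∀ (x : WM) (n : ℕ), x ^ n = 1 → (h * F.φ x * h⁻¹) ^ n = 1 := fun x n hx => by
    rw [conj_pow, ← map_pow, hx, map_one]; group
  have cc : ∀ x : WM, inA x → h * F.φ (cM * x) * h⁻¹ = F.φ (g * x) := fun x hx => by
    calc h * F.φ (cM * x) * h⁻¹ = (h * F.φ cM * h⁻¹) * (h * F.φ x * h⁻¹) := by rw [map_mul]; group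
      _ = _ := by rw [hfix x hx, ← hg, map_mul]
  obtain ⟨c1, c2, c3, c4⟩ := cM_facts
  have iu : inA uM := by simp [inA]
  have iv : inA vM := by simp [inA]
  have iuv : inA (uM * vM) := by simp [inA]
  have h5 : g ^ 5 = 1 := F.inj (by rw [map_pow, hg, hpow cM 5 c1, map_one])
  have h3 : g * uM * (g * uM) * (g * uM) = 1 := F.inj (by
    rw [map_mul, map_mul, ← cc uM iu, map_one,
      show h * F.φ (cM * uM) * h⁻¹ * (h * F.φ (cM * uM) * h⁻¹) * (h * F.φ (cM * uM) * h⁻¹) =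
        h * (F.φ (cM * uM) * F.φ (cM * uM) * F.φ (cM * uM)) * h⁻¹ by group, ← map_mul, ← map_mul, c2, map_one]
    group)
  have h55 : (g * vM) ^ 5 = 1 := F.inj (by rw [map_pow, ← cc vM iv, hpow _ 5 c3, map_one])
  have h2 : g * (uM * vM) * (g * (uM * vM)) = 1 := F.inj (by
    rw [map_mul, ← cc _ iuv, map_one,
      show h * F.φ (cM * (uM * vM)) * h⁻¹ * (h * F.φ (cM * (uM * vM)) * h⁻¹) =
        h * (F.φ (cM * (uM * vM)) * F.φ (cM * (uM * vM))) * h⁻¹ by group, ← map_mul, c4, map_one]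
    group)
  obtain ⟨x, hx, hgx⟩ : ∃ x, inA x ∧ g = x * cM * x := by
    rcases rigid g h5 h3 h55 h2 with r | r | r | r
    · exact ⟨1, inA_closed.2.2.2.1, by rw [r]; simp⟩
    · exact ⟨uM, iu, r⟩
    · exact ⟨vM, iv, r⟩
    · exact ⟨uM * vM, iuv, r⟩
  refine ⟨F.φ x, ⟨x, hx, rfl⟩, ?_⟩
  have hxx : F.φ x * F.φ x = 1 := by rw [← map_mul, inA_closed.2.1 x hx, map_one]
  rw [mem_centralizer_iff]
  have hle : wcl t ≤ centralizer ({F.φ x * h} : Set G) := by
    rw [← F.range_eq, MonoidHom.range_eq_map, ← closure_model, MonoidHom.map_closure, closure_le]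
    rintro _ ⟨z, hz, rfl⟩
    rw [SetLike.mem_coe, mem_centralizer_singleton_iff]
    have hA : ∀ w : WM, inA w → F.φ w * (F.φ x * h) = F.φ x * h * F.φ w := by
      intro w hw
      rw [← mul_assoc, F.comm_A ⟨w, hw, rfl⟩ ⟨x, hx, rfl⟩, mul_assoc, ← hh _ ⟨w, hw, rfl⟩, mul_assoc]
    rcases hz with rfl | rfl | rfl | rfl
    · exact hA zM (by simp [inA])
    · exact hA uM iu
    · exact hA vM iv
    · have e : h * F.φ cM = F.φ g * h := by rw [hg]; group
      rw [mul_assoc (F.φ x) h, e, hgx, map_mul, map_mul,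
        show F.φ x * (F.φ x * F.φ cM * F.φ x * h) = (F.φ x * F.φ x) * F.φ cM * (F.φ x * h) by group, hxx, one_mul]
  intro w hw
  exact mem_centralizer_singleton_iff.1 (hle hw)

/-- The centraliser of `t`. -/
theorem decomp {g : G} (hgt : g * t = t * g) :
    ∃ w ∈ wcl t, ∃ k ∈ centralizer ((wcl t : Subgroup G) : Set G), (∀ a ∈ F.A, k * a = a * k) ∧ g = w * k := by
  obtain ⟨c, hc, hciff⟩ := F.sylow_wcl (B := F.A.map (MulAut.conj g).toMonoidHom)
    (by rintro _ ⟨x, hx, rfl⟩; exact conj_wcl_self hgt (F.A_le_wcl hx))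
    (by rw [card_map_of_injective (MulAut.conj g).injective, F.card_A])
  have hct : c * t = t * c := mem_centralizer_singleton_iff.1 (wcl_le_centralizer t hc)
  have hcg : ∀ a ∈ F.A, c * g * a * (c * g)⁻¹ ∈ F.A := fun a ha => by
    have := (hciff (g * a * g⁻¹)).1 ⟨a, ha, rfl⟩
    rwa [show c * g * a * (c * g)⁻¹ = c * (g * a * g⁻¹) * c⁻¹ by group]
  obtain ⟨i, hi⟩ := F.adjust ((show Commute c t from hct).mul_left hgt) hcg
  obtain ⟨a, ha, hak⟩ := F.decomp_A hi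
  refine ⟨(a * F.y ^ (i : ℕ) * c)⁻¹, inv_mem (mul_mem (mul_mem (F.A_le_wcl ha) (pow_mem (F.mem_range yM) _)) hc),
    a * (F.y ^ (i : ℕ) * (c * g)), hak, fun b hb => ?_, by group⟩
  exact (mem_centralizer_iff.1 hak b (F.A_le_wcl hb)).symm

end Frame

end Cfsg.Lib.WeakJOne
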