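import Cfsg.Agent.TwoTimesAlt.Five

/-!
Finite facts on `2 × A₅` needed for groups with this weak closure of an involution.
-/

set_option autoImplicit false
set_option linter.unusedSectionVars false
set_option synthInstance.maxSize 2000
set_option maxRecDepth 4000

namespace Cfsg.Lib.WeakJOne

/-- The model. -/
abbrev WM : Type := Multiplicative (ZMod 2) × alternatingGroup (Fin 5)

open Equiv

def uA : alternatingGroup (Fin 5) := ⟨swap 0 1 * swap 2 3, Equiv.Perm.mem_alternatingGroup.2 (by decide)⟩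
def vA : alternatingGroup (Fin 5) := ⟨swap 0 2 * swap 1 3, Equiv.Perm.mem_alternatingGroup.2 (by decide)⟩
def cA : alternatingGroup (Fin 5) := ⟨swap 0 1 * swap 1 2 * swap 2 3 * swap 3 4, Equiv.Perm.mem_alternatingGroup.2 (by decide)⟩
def yA : alternatingGroup (Fin 5) := ⟨swap 1 2 * swap 2 3, Equiv.Perm.mem_alternatingGroup.2 (by decide)⟩

/-- The central involution. -/
def zM : WM := (Multiplicative.ofAdd 1, 1)
def uM : WM := (1, uA)
def vM : WM := (1, vA)
def cM : WM := (1, cA)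
def yM : WM := (1, yA)

theorem zM_facts : zM * zM = 1 ∧ zM ≠ 1 ∧ (∀ g : WM, zM * g = g * zM) ∧
    (∀ g : WM, (∀ h, g * h = h * g) → g = 1 ∨ g = zM) := by
  decide +kernel

theorem vM_facts : uM * uM = 1 ∧ vM * vM = 1 ∧ uM * vM = vM * uM ∧ uM ≠ 1 ∧ vM ≠ 1 ∧ uM ≠ vM ∧ uM.1 = 1 ∧
    vM.1 = 1 := by
  decide +kernel

theorem yM_facts : yM * yM * yM = 1 ∧ yM * uM * yM⁻¹ ≠ uM ∧ yM * vM * yM⁻¹ ≠ vM ∧
    yM * (uM * vM) * yM⁻¹ ≠ uM * vM ∧ yM * zM * yM⁻¹ = zM := by
  decide +kernel

/-- The four-group times the centre. -/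
def inA (g : WM) : Prop :=
  g = 1 ∨ g = uM ∨ g = vM ∨ g = uM * vM ∨ g = zM ∨ g = zM * uM ∨ g = zM * vM ∨ g = zM * (uM * vM)

instance (g : WM) : Decidable (inA g) := by unfold inA; infer_instance

theorem inA_closed : (∀ g h : WM, inA g → inA h → inA (g * h)) ∧ (∀ g : WM, inA g → g * g = 1) ∧
    (Finset.univ.filter fun g : WM => inA g).card = 8 ∧ inA (1 : WM) ∧
    (∀ g : WM, inA g → inA (yM * g * yM⁻¹)) := by
  decide +kernel

theorem inA_fst : ∀ g : WM, inA g → g.1 = 1 → g = 1 ∨ g = uM ∨ g = vM ∨ g = uM * vM := by decide +kernel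

theorem inA_cent : ∀ g : WM, g * uM = uM * g → g * vM = vM * g → inA g := by decide +kernel

theorem rigid : ∀ g : WM, g ^ 5 = 1 → (g * uM) * (g * uM) * (g * uM) = 1 → (g * vM) ^ 5 = 1 →
    g * (uM * vM) * (g * (uM * vM)) = 1 →
    g = cM ∨ g = uM * cM * uM ∨ g = vM * cM * vM ∨ g = uM * vM * cM * (uM * vM) := by
  decide +kernel

theorem cM_facts : cM ^ 5 = 1 ∧ (cM * uM) * (cM * uM) * (cM * uM) = 1 ∧ (cM * vM) ^ 5 = 1 ∧
    cM * (uM * vM) * (cM * (uM * vM)) = 1 := by
  decide +kernel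

theorem alt_comm : ∀ a : alternatingGroup (Fin 5), ∃ b c, a = b * c * b⁻¹ * c⁻¹ := by decide +kernel

theorem alt_orders : orderOf uA = 2 ∧ cA ^ 5 = 1 ∧ cA ≠ 1 ∧ (cA * uA) ^ 3 = 1 ∧ cA * uA ≠ 1 ∧
    uA * vA = vA * uA ∧ vA * vA = 1 ∧ vA ≠ 1 ∧ vA ≠ uA := by
  refine ⟨orderOf_eq_prime (hp := ⟨Nat.prime_two⟩) (by decide +kernel) (by decide +kernel), ?_⟩
  decide +kernel

theorem closure_alt : Subgroup.closure {uA, vA, cA} = (⊤ : Subgroup (alternatingGroup (Fin 5))) := by
  set H := Subgroup.closure ({uA, vA, cA} : Set (alternatingGroup (Fin 5))) with hH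
  obtain ⟨hu, hc5, hc1, hcu, hcu1, huv, hvv, hv1, hvu⟩ := alt_orders
  have huu : uA * uA = 1 := by rw [← pow_two, ← hu, pow_orderOf_eq_one]
  have hu1 : uA ≠ 1 := fun h => by rw [h, orderOf_one] at hu; norm_num at hu
  have mu : uA ∈ H := Subgroup.subset_closure (by simp)
  have mv : vA ∈ H := Subgroup.subset_closure (by simp)
  have mc : cA ∈ H := Subgroup.subset_closure (by simp)
  have d5 : 5 ∣ Nat.card H := by
    have h := Subgroup.card_dvd_of_le (Subgroup.zpowers_le.2 mc)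
    rwa [Nat.card_zpowers, orderOf_eq_prime (hp := ⟨Nat.prime_five⟩) hc5 hc1] at h
  have d3 : 3 ∣ Nat.card H := by
    have h := Subgroup.card_dvd_of_le (Subgroup.zpowers_le.2 (mul_mem mc mu))
    rwa [Nat.card_zpowers, orderOf_eq_prime (hp := ⟨Nat.prime_three⟩) hcu hcu1] at h
  have d4 : 4 ∣ Nat.card H := by
    have hcomm : ∀ (a : Subgroup.zpowers uA) (b : Subgroup.zpowers vA),
        Commute ((Subgroup.zpowers uA).subtype a) ((Subgroup.zpowers vA).subtype b) := by
      rintro ⟨a, ha⟩ ⟨b, hb⟩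
      obtain ⟨i, rfl⟩ := Subgroup.mem_zpowers_iff.1 ha
      obtain ⟨j, rfl⟩ := Subgroup.mem_zpowers_iff.1 hb
      exact (show Commute uA vA from huv).zpow_zpow i j
    let ψ := MonoidHom.noncommCoprod (Subgroup.zpowers uA).subtype (Subgroup.zpowers vA).subtype hcomm
    have hle : ψ.range ≤ H := by
      rw [MonoidHom.noncommCoprod_range, Subgroup.range_subtype, Subgroup.range_subtype]
      exact sup_le (Subgroup.zpowers_le.2 mu) (Subgroup.zpowers_le.2 mv)
    have hv : orderOf vA = 2 := orderOf_eq_prime (hp := ⟨Nat.prime_two⟩) (by rw [pow_two, hvv]) hv1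
    have hinj : Function.Injective ψ := by
      refine (injective_iff_map_eq_one ψ).2 fun ⟨⟨a, ha⟩, ⟨b, hb⟩⟩ h => ?_
      have h' : a * b = 1 := h
      obtain ⟨i, hi⟩ := mem_powers_iff_mem_zpowers.2 ha
      obtain ⟨j, hj⟩ := mem_powers_iff_mem_zpowers.2 hb
      simp only at hi hj
      rw [← pow_mod_orderOf, hu] at hi
      rw [← pow_mod_orderOf, hv] at hj
      rcases Nat.mod_two_eq_zero_or_one i with ei | ei <;> rcases Nat.mod_two_eq_zero_or_one j with ej | ej <;>
        rw [ei] at hi <;> rw [ej] at hj <;> simp at hi hj <;> subst hi <;> subst hj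
      · rfl
      · exact absurd (by simpa using h') hv1
      · exact absurd (by simpa using h') hu1
      · exact absurd ((eq_inv_of_mul_eq_one_left h').trans (inv_eq_of_mul_eq_one_left hvv)).symm hvu
    refine dvd_trans (dvd_of_eq ?_) (Subgroup.card_dvd_of_le hle)
    rw [← Nat.card_congr (MonoidHom.ofInjective hinj).toEquiv, Nat.card_prod, Nat.card_zpowers, Nat.card_zpowers, hu, hv]
  refine Subgroup.eq_top_of_le_card _ ?_
  have hA : Nat.card (alternatingGroup (Fin 5)) = 60 := by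
    rw [Nat.card_eq_fintype_card]; decide +kernel
  rw [hA]
  exact Nat.le_of_dvd Nat.card_pos (by omega)

theorem closure_model : Subgroup.closure {zM, uM, vM, cM} = (⊤ : Subgroup WM) := by
  set H := Subgroup.closure ({zM, uM, vM, cM} : Set WM) with hH
  have hsnd : ∀ a : alternatingGroup (Fin 5), ((1, a) : WM) ∈ H := by
    intro a
    have ha : a ∈ Subgroup.closure ({uA, vA, cA} : Set (alternatingGroup (Fin 5))) :=
      closure_alt ▸ Subgroup.mem_top a
    have hle : Subgroup.closure ({uA, vA, cA} : Set (alternatingGroup (Fin 5))) ≤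
        H.comap (MonoidHom.inr (Multiplicative (ZMod 2)) (alternatingGroup (Fin 5))) := by
      rw [Subgroup.closure_le]
      rintro b (rfl | rfl | rfl) <;> exact Subgroup.subset_closure (by simp [uM, vM, cM])
    exact hle ha
  refine eq_top_iff.2 fun g _ => ?_
  rcases (by decide : ∀ a : ZMod 2, a = 0 ∨ a = 1) (Multiplicative.toAdd g.1) with h | h
  · have : g = (1, g.2) := Prod.ext (Multiplicative.toAdd.injective h) rfl
    rw [this]
    exact hsnd g.2
  · have : g = zM * (1, g.2) := Prod.ext (Multiplicative.toAdd.injective (by simpa [zM] using h)) (by simp [zM])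
    rw [this]
    exact mul_mem (Subgroup.subset_closure (by simp)) (hsnd g.2)

/-- The elements of the second factor are the commutators. -/
theorem fst_iff (g : WM) : g.1 = 1 ↔ ∃ b c : WM, g = b * c * b⁻¹ * c⁻¹ := by
  constructor
  · intro h
    obtain ⟨b, c, hbc⟩ := alt_comm g.2
    exact ⟨(1, b), (1, c), Prod.ext (by simp [h]) (by simp [hbc])⟩
  · rintro ⟨b, c, rfl⟩
    show b.1 * c.1 * b.1⁻¹ * c.1⁻¹ = 1
    rw [mul_comm b.1 c.1, mul_inv_cancel_right, mul_inv_cancel]

theorem fst_mem_A {g : WM} : g.1 = 1 ↔ g = (1, g.2) := ⟨fun h => Prod.ext h rfl, fun h => by rw [h]⟩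

end Cfsg.Lib.WeakJOne
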