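import Cfsg.Agent.WeakClosureJOne.Kernel
import Cfsg.Agent.WeakClosureJOne.JOne

/-!
Proper subgroups containing the weak closure, under an induction hypothesis.
-/

set_option autoImplicit false
set_option linter.unusedSectionVars false

namespace Cfsg.Lib.WeakJOne

open Subgroup

universe u

variable {G : Type u} [Group G] [Finite G]

/-- The induction hypothesis at `G`. -/
def IH (G : Type u) : Prop :=
  ∀ (K : Type u) [Group K] [Finite K] (s : K), Nat.card K < Nat.card G → Hyp K s →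
    Cfsg.Spor.IsoJ1 (Subgroup.normalClosure ({s} : Set K))

namespace Frame

variable {t : G} (F : Frame G t)

theorem isoJOne_X (ih : IH G) (hX : F.X ≠ ⊤) : Cfsg.Spor.IsoJ1 F.X := by
  have hW := F.wcl_le_X
  have htY : t ∈ F.X := hW (F.A_le_wcl F.t_mem)
  have hlt : Nat.card F.X < Nat.card G := lt_of_le_of_ne (card_le_card_group F.X) fun h => hX (eq_top_of_card_eq _ h)
  have hiso := ih F.X ⟨t, htY⟩ hlt (F.sub_hyp hW fun a ha ha1 => F.X_fusion ha ha1)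
  -- the normal closure is everything
  set N := Subgroup.normalClosure ({(⟨t, htY⟩ : F.X)} : Set F.X) with hN
  have hWN : wcl t ≤ N.map F.X.subtype := by
    rw [← F.sub_wcl hW fun a ha ha1 => F.X_fusion ha ha1]
    refine map_mono ((closure_le _).2 ?_)
    rintro x ⟨g, rfl, -⟩
    exact (normalClosure_normal).conj_mem _ (subset_normalClosure (Set.mem_singleton _)) g
  have hle : F.X ≤ N.map F.X.subtype := by
    refine iSup_le fun a => ?_
    obtain ⟨g, hg, hga⟩ := F.X_fusion a.2.1 a.2.2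
    rw [← hga, ← conj_wcl]
    rintro _ ⟨z, hz, rfl⟩
    obtain ⟨n, hn, rfl⟩ := hWN hz
    exact ⟨⟨g, hg⟩ * n * ⟨g, hg⟩⁻¹, normalClosure_normal.conj_mem n hn _, rfl⟩
  have htop : N = ⊤ := eq_top_iff.2 fun x _ => by
    obtain ⟨n, hn, hnx⟩ := hle x.2
    exact (Subtype.ext hnx : n = x) ▸ hn
  obtain ⟨e⟩ := hiso
  exact ⟨(topEquiv.symm.trans (MulEquiv.subgroupCongr htop.symm)).trans e⟩

theorem X_conj (ih : IH G) (hX : F.X ≠ ⊤) {x : G} (hx : x ∈ F.X) (hxx : x * x = 1) (hx1 : x ≠ 1) :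
    ∃ g ∈ F.X, g * t * g⁻¹ = x := by
  obtain ⟨g, hg⟩ := isConj_iff.1 (jOne_conj (F.isoJOne_X ih hX)
    (a := (⟨t, F.wcl_le_X (F.A_le_wcl F.t_mem)⟩ : F.X)) (b := ⟨x, hx⟩)
    (Subtype.ext F.t_sq) (fun h => F.t_ne (congrArg Subtype.val h)) (Subtype.ext hxx)
    (fun h => hx1 (congrArg Subtype.val h)))
  exact ⟨g, g.2, congrArg Subtype.val hg⟩

theorem X_class (ih : IH G) (hX : F.X ≠ ⊤) {x : G} (hx : x ∈ F.X) (hxx : x * x = 1) (hx1 : x ≠ 1) :
    IsConj t x := by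
  obtain ⟨g, -, hg⟩ := F.X_conj ih hX hx hxx hx1
  exact isConj_iff.2 ⟨g, hg⟩

theorem conj_X {x : G} (hx : x ∈ F.X) : F.X.map (MulAut.conj x).toMonoidHom = F.X := by
  refine eq_of_le_of_card_ge ?_ (by rw [card_map_of_injective (MulAut.conj x).injective])
  rintro _ ⟨z, hz, rfl⟩
  exact mul_mem (mul_mem hx hz) (inv_mem hx)

theorem weak_in_X (ih : IH G) (hX : F.X ≠ ⊤) {x : G} (hx : x ∈ F.X) (hxx : x * x = 1) (hx1 : x ≠ 1) :
    wcl x ≤ F.X := by
  obtain ⟨g, hg, hgt⟩ := F.X_conj ih hX hx hxx hx1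
  rw [← hgt, ← conj_wcl, ← F.conj_X hg]
  exact map_mono F.wcl_le_X

/-- The normaliser of `X`. -/
theorem mem_normalizer_iff_conj (ih : IH G) (hX : F.X ≠ ⊤) {g : G} :
    g ∈ normalizer (F.X : Set G) ↔
      ∃ x ∈ F.X, ∃ q ∈ centralizer ((F.X : Subgroup G) : Set G), g = x * q := by
  constructor
  · intro hg
    have htX : t ∈ F.X := F.wcl_le_X (F.A_le_wcl F.t_mem)
    obtain ⟨x, hx, hxt⟩ := F.X_conj ih hX ((mem_normalizer_iff.1 hg t).1 htX) (conj_sq g F.t_sq) (conj_ne g F.t_ne)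
    obtain ⟨w, hw, q, hq, e⟩ := F.centralizer_t (g := x⁻¹ * g) (by
      calc x⁻¹ * g * t = x⁻¹ * (g * t * g⁻¹) * g := by group
        _ = t * (x⁻¹ * g) := by rw [← hxt]; group)
    exact ⟨x * w, mul_mem hx (F.wcl_le_X hw), q, hq, by rw [mul_assoc, ← e, mul_inv_cancel_left]⟩
  · rintro ⟨x, hx, q, hq, rfl⟩
    exact mul_mem (le_normalizer hx) (centralizer_le_normalizer _ hq)

theorem mem_normalizer_of_conj (ih : IH G) (hX : F.X ≠ ⊤) {g a : G} (ha : a ∈ F.X) (haa : a * a = 1) (ha1 : a ≠ 1)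
    (hg : g * a * g⁻¹ ∈ F.X) : g ∈ normalizer (F.X : Set G) := by
  obtain ⟨x, hx, hxt⟩ := F.X_conj ih hX ha haa ha1
  obtain ⟨z, hz, hzt⟩ := F.X_conj ih hX hg (conj_sq g haa) (conj_ne g ha1)
  obtain ⟨w, hw, q, hq, e⟩ := F.centralizer_t (g := z⁻¹ * g * x) (by
    calc z⁻¹ * g * x * t = z⁻¹ * (g * (x * t * x⁻¹) * g⁻¹) * (g * x) := by group
      _ = t * (z⁻¹ * g * x) := by rw [hxt, ← hzt]; group)
  rw [show g = z * (z⁻¹ * g * x) * x⁻¹ by group, e]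
  exact mul_mem (mul_mem (le_normalizer hz) (mul_mem (le_normalizer (F.wcl_le_X hw))
    (centralizer_le_normalizer _ hq))) (le_normalizer (inv_mem hx))

/-- Class elements of a proper fused subgroup containing the weak closure lie in `X`. -/
theorem class_in_X (ih : IH G) (hX : F.X ≠ ⊤) {Y : Subgroup G} (hY : Y ≠ ⊤) (hW : wcl t ≤ Y)
    (hfus : ∀ a ∈ F.A, a ≠ 1 → ∃ g ∈ Y, g * t * g⁻¹ = a) {y : G} (hy : y ∈ Y) (hyc : IsConj t y) : y ∈ F.X := by
  classical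
  haveI : Fact (Nat.Prime 2) := ⟨Nat.prime_two⟩
  have htY : t ∈ Y := hW (F.A_le_wcl F.t_mem)
  have hlt : Nat.card Y < Nat.card G := lt_of_le_of_ne (card_le_card_group Y) fun h => hY (eq_top_of_card_eq _ h)
  have hiso := ih Y ⟨t, htY⟩ hlt (F.sub_hyp hW hfus)
  set N := Subgroup.normalClosure ({(⟨t, htY⟩ : Y)} : Set Y) with hN
  have hWN : wcl t ≤ N.map Y.subtype := by
    rw [← F.sub_wcl hW hfus]
    refine map_mono ((closure_le _).2 ?_)
    rintro x ⟨g, rfl, -⟩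
    exact normalClosure_normal.conj_mem _ (subset_normalClosure (Set.mem_singleton _)) g
  have hXN : F.X ≤ N.map Y.subtype := by
    refine iSup_le fun a => ?_
    obtain ⟨g, hg, hga⟩ := hfus a.1 a.2.1 a.2.2
    rw [← hga, ← conj_wcl]
    rintro _ ⟨z, hz, rfl⟩
    obtain ⟨n, hn, rfl⟩ := hWN hz
    exact ⟨⟨g, hg⟩ * n * ⟨g, hg⟩⁻¹, normalClosure_normal.conj_mem n hn _, rfl⟩
  have heq : F.X = N.map Y.subtype := eq_of_le_of_card_ge hXN (by
    rw [card_map_of_injective Y.subtype_injective, jOne_card hiso, jOne_card (F.isoJOne_X ih hX)])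
  -- `y` is conjugate in `Y` into `A`
  have hy1 : y ≠ 1 := fun h => F.t_ne (isConj_one_left.1 (h ▸ hyc))
  have hyy : y * y = 1 := by
    obtain ⟨g, rfl⟩ := isConj_iff.1 hyc
    exact conj_sq g F.t_sq
  have hAY : F.A ≤ Y := F.A_le_wcl.trans hW
  have hp : IsPGroup 2 (F.A.subgroupOf Y) := (F.S.2.to_le F.A_le_S).comap_of_injective Y.subtype Y.subtype_injective
  obtain ⟨R, hR⟩ := hp.exists_le_sylow
  have hp2 : IsPGroup 2 ((zpowers y).subgroupOf Y) := IsPGroup.of_card (n := 1) (by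
    rw [Nat.card_congr (subgroupOfEquivOfLe (zpowers_le.2 hy)).toEquiv, Nat.card_zpowers, pow_one]
    exact orderOf_eq_prime (by rw [pow_two, hyy]) hy1)
  obtain ⟨R', hR'⟩ := hp2.exists_le_sylow
  obtain ⟨c, hc⟩ := MulAction.exists_smul_eq Y R' R
  have hcy : (c : G) * y * (c : G)⁻¹ ∈ (R : Subgroup Y).map Y.subtype := by
    refine ⟨c * ⟨y, hy⟩ * c⁻¹, ?_, rfl⟩
    rw [← hc, Sylow.coe_subgroup_smul]
    exact ⟨⟨y, hy⟩, hR' (mem_subgroupOf.2 (mem_zpowers y)), rfl⟩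
  have ha := F.cls_twogroup (R.2.map Y.subtype) (fun a ha => ⟨⟨a, hAY ha⟩, hR (mem_subgroupOf.2 ha), rfl⟩)
    (hyc.trans (isConj_iff.2 ⟨c, rfl⟩)) hcy
  obtain ⟨n, hn, hne⟩ := hXN (F.le_X ha (conj_ne _ hy1) (mem_wcl (IsConj.refl _) rfl))
  rw [heq]
  refine ⟨c⁻¹ * n * c⁻¹⁻¹, normalClosure_normal.conj_mem n hn _, ?_⟩
  show (c : G)⁻¹ * (n : G) * ((c : G)⁻¹)⁻¹ = y
  rw [show (n : G) = (c : G) * y * (c : G)⁻¹ from hne]
  group

end Frame

end Cfsg.Lib.WeakJOne
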